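import Mathlib
import Cfsg.Agent.Lib.PGroups.ShultGross.Linear
import Cfsg.Agent.Lib.PGroups.Alperin.BoundedOrder

/-!
# An operator of order `2 ^ (k + 1)` on a twisted group algebra

`exists_neg_vector`: if the top power of the permutation of the labels is nontrivial and the
operator has no fixed vector, the permutation is trivial on the labels fixed by that power, and
the operator has a vector fixed by its top power and negated by the power before it.
-/

set_option autoImplicit false
set_option linter.all false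

namespace CfsgLib.PGroups.ShultGross.Twisted

variable {K : Type*} [Field K] [IsAlgClosed K] {U : Type*} [AddCommGroup U] [Module K U]
  [FiniteDimensional K U] [Nontrivial U] {E : Type*} [CommGroup E] [Finite E]
  {e : E → Module.End K U} {c : E → E → K} (h : Twisted e c)
include h

theorem κ_symm (a b : E) : h.κ b a = (h.κ a b)⁻¹ := by
  rw [κ, κ, inv_div]

theorem κ_mul_right (a b b' : E) : h.κ a (b * b') = h.κ a b * h.κ a b' := by
  rw [h.κ_symm (b * b'), h.κ_mul, mul_inv, ← h.κ_symm, ← h.κ_symm]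

theorem κ_one_left (a : E) : h.κ 1 a = 1 := by
  have := h.κ_mul 1 1 a
  rw [one_mul] at this
  exact (mul_eq_left₀ (h.κ_ne 1 a)).mp this.symm

theorem isUnit_e (a : E) : IsUnit (e a) := ⟨h.u a, h.u_val a⟩

theorem κ_pow_card (a b : E) : h.κ a b ^ Nat.card E = 1 := by
  have key : ∀ i : ℕ, h.κ (a ^ i) b = h.κ a b ^ i := by
    intro i
    induction i with
    | zero => rw [pow_zero, pow_zero, h.κ_one_left]
    | succ i ih => rw [pow_succ, pow_succ, h.κ_mul, ih]
  rw [← key, pow_card_eq_one', h.κ_one_left]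

theorem eq_one_of_sq (hodd : Odd (Nat.card E)) {a b : E} (hab : h.κ a b * h.κ a b = 1) :
    h.κ a b = 1 := by
  obtain ⟨i, hi⟩ := hodd
  have := h.κ_pow_card a b
  rwa [hi, pow_succ, pow_mul, sq, hab, one_pow, one_mul] at this

/-- A conjugating operator preserves the commutation factors. -/
theorem κ_map {φ : MulAut E} {β : Module.End K U} {s : E → K}
    (hβe : ∀ a, β * e a = s a • (e (φ a) * β)) (hβ : IsUnit β) (a b : E) :
    h.κ (φ a) (φ b) = h.κ a b := by
  have key : ∀ x y, β * (e x * e y) = (s x * s y) • (e (φ x) * e (φ y) * β) := fun x y => by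
    rw [← mul_assoc, hβe, smul_mul_assoc, mul_assoc, hβe, mul_smul_comm, smul_smul, mul_assoc]
  have h1 := key a b
  rw [h.comm a b, mul_smul_comm, key b a, h.comm (φ a) (φ b), smul_mul_assoc, smul_smul, smul_smul,
    mul_comm (s b) (s a)] at h1
  have hne : e (φ b) * e (φ a) * β ≠ 0 :=
    (((h.isUnit_e _).mul (h.isUnit_e _)).mul hβ).ne_zero
  have hs : ∀ x, s x ≠ 0 := fun x h0 => by
    have := hβe x
    rw [h0, zero_smul] at this
    exact (hβ.mul (h.isUnit_e x)).ne_zero this
  have h2 := smul_left_injective K hne h1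
  exact (mul_left_cancel₀ (mul_ne_zero (hs a) (hs b))
    (show s a * s b * h.κ a b = s a * s b * h.κ (φ a) (φ b) by rw [← h2]; ring)).symm

end CfsgLib.PGroups.ShultGross.Twisted

namespace CfsgLib.PGroups.Gross

open CfsgLib.PGroups.ShultGross Module

variable {K : Type*} [Field K] [IsAlgClosed K] {U : Type*} [AddCommGroup U] [Module K U]
  [FiniteDimensional K U] [Nontrivial U] {E : Type*} [CommGroup E] [Finite E]
  {e : E → Module.End K U} {c : E → E → K}

/-- The labels inverted by an operator. -/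
def negPart (τ : MulAut E) : Subgroup E where
  carrier := {a | τ a = a⁻¹}
  one_mem' := by simp
  mul_mem' := fun {a b} ha hb => by
    simp only [Set.mem_setOf_eq] at ha hb ⊢
    rw [map_mul, ha, hb, mul_inv]
  inv_mem' := fun {a} ha => by
    simp only [Set.mem_setOf_eq] at ha ⊢
    rw [map_inv, ha]

theorem mem_negPart {τ : MulAut E} {a : E} : a ∈ negPart τ ↔ τ a = a⁻¹ := Iff.rfl

theorem negPart_iff {τ φ : MulAut E} (hc : Commute φ τ) (a : E) :
    a ∈ negPart τ ↔ φ a ∈ negPart τ := by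
  rw [mem_negPart, mem_negPart, ← MulAut.mul_apply, ← hc.eq, MulAut.mul_apply, ← map_inv,
    φ.injective.eq_iff]

/-- Every label is a fixed one times an inverted one. -/
theorem exists_decomposition (hodd : Odd (Nat.card E)) {τ : MulAut E} (hτ : τ * τ = 1) (a : E) :
    ∃ x y, τ x = x ∧ y ∈ negPart τ ∧ a = x * y := by
  obtain ⟨i, hi⟩ := hodd
  have hττ : ∀ b, τ (τ b) = b := fun b => by rw [← MulAut.mul_apply, hτ, MulAut.one_apply]
  set b := a ^ (i + 1) with hb
  refine ⟨b * τ b, b * (τ b)⁻¹, ?_, ?_, ?_⟩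
  · rw [map_mul, hττ, mul_comm]
  · rw [mem_negPart, map_mul, map_inv, hττ, mul_inv, inv_inv, mul_comm]
  · rw [mul_mul_mul_comm, mul_inv_cancel, mul_one, hb, ← pow_add]
    conv_lhs => rw [← one_mul a, ← pow_card_eq_one' (x := a), ← pow_succ]
    congr 1
    omega

/-- The fixed labels commute with the inverted ones. -/
theorem κ_eq_one (h : Twisted e c) (hodd : Odd (Nat.card E)) {τ : MulAut E}
    (hκ : ∀ a b, h.κ (τ a) (τ b) = h.κ a b) {x y : E} (hx : τ x = x) (hy : y ∈ negPart τ) :
    h.κ x y = 1 := by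
  refine h.eq_one_of_sq hodd ?_
  have h1 := hκ x y
  rw [hx, mem_negPart.mp hy] at h1
  conv_lhs => arg 1; rw [← h1]
  rw [← h.κ_mul_right, inv_mul_cancel, h.κ_symm 1, h.κ_one_left, inv_one]

/-- Restriction to the inverted labels. -/
theorem twisted_negPart (h : Twisted e c) (hodd : Odd (Nat.card E)) {τ : MulAut E} (hτ : τ * τ = 1)
    (hκ : ∀ a b, h.κ (τ a) (τ b) = h.κ a b) :
    Twisted (fun a : negPart τ => e a) (fun a b : negPart τ => c a b) :=
  { c_ne := fun a b => h.c_ne _ _
    mul := fun a b => h.mul _ _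
    one := h.one
    nondeg := fun a ha => by
      obtain ⟨b, hb⟩ := h.nondeg (a : E) fun e1 => ha (Subtype.ext e1)
      obtain ⟨x, y, hx, hy, rfl⟩ := exists_decomposition hodd hτ b
      refine ⟨⟨y, hy⟩, fun heq => hb ?_⟩
      have hy1 : h.κ (a : E) y = 1 := by
        have h2 : e (a : E) * e y = e y * e (a : E) := heq
        rw [h.comm (a : E) y] at h2
        exact smul_left_injective K ((h.isUnit_e y).mul (h.isUnit_e (a : E))).ne_zero
          (show h.κ (a : E) y • _ = (1 : K) • (e y * e (a : E)) by rw [one_smul]; exact h2)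
      rw [h.comm (a : E) (x * y), h.κ_mul_right, hy1, mul_one, h.κ_symm x,
        κ_eq_one h hodd hκ hx a.2, inv_one, one_smul] }

variable {φ : MulAut E} {β : Module.End K U} {s : E → K} {k : ℕ}

theorem isUnit_of_pow {m : ℕ} (hβm : β ^ (m + 1) = 1) : IsUnit β :=
  ⟨⟨β, β ^ m, by rw [← pow_succ', hβm], by rw [← pow_succ, hβm]⟩, rfl⟩

theorem κ_map_pow (h : Twisted e c) (hβe : ∀ a, β * e a = s a • (e (φ a) * β)) (hβ : IsUnit β)
    (i : ℕ) (a b : E) : h.κ ((φ ^ i) a) ((φ ^ i) b) = h.κ a b := by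
  induction i with
  | zero => rfl
  | succ i ih => rw [pow_succ', MulAut.mul_apply, MulAut.mul_apply, h.κ_map hβe hβ, ih]

theorem top_sq (hφm : φ ^ 2 ^ (k + 1) = 1) : φ ^ 2 ^ k * φ ^ 2 ^ k = 1 := by
  rw [← pow_add, ← two_mul, ← pow_succ', hφm]

/-- The action is free on the inverted labels. -/
theorem free_negPart (hodd : Odd (Nat.card E)) (hφm : φ ^ 2 ^ (k + 1) = 1) :
    ∀ i, 0 < i → i < 2 ^ (k + 1) → ∀ a : negPart (φ ^ 2 ^ k),
      (Alperin.restrict φ (negPart (φ ^ 2 ^ k)) (negPart_iff (Commute.self_pow φ _)) ^ i) a = a →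
        a = 1 := by
  intro i hi him a ha
  have h0 : Function.IsPeriodicPt (φ : E → E) i (a : E) := by
    show (⇑φ)^[i] (a : E) = a
    rw [← coe_pow_iterate, ← Alperin.restrict_pow φ _ (negPart_iff (Commute.self_pow φ _)) i a, ha]
  have h1 : Function.IsPeriodicPt (φ : E → E) (2 ^ (k + 1)) (a : E) := by
    show (⇑φ)^[2 ^ (k + 1)] (a : E) = a
    rw [← coe_pow_iterate, hφm]; rfl
  have h2 := h0.gcd h1
  obtain ⟨j, hj, hjeq⟩ := (Nat.dvd_prime_pow Nat.prime_two).mp (Nat.gcd_dvd_right i (2 ^ (k + 1)))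
  have hjk : j ≤ k := by
    have := Nat.le_of_dvd hi (hjeq ▸ Nat.gcd_dvd_left i (2 ^ (k + 1)))
    have := (Nat.pow_lt_pow_iff_right one_lt_two).mp (lt_of_le_of_lt this him)
    omega
  rw [hjeq] at h2
  obtain ⟨u, hu⟩ : 2 ^ j ∣ 2 ^ k := pow_dvd_pow 2 hjk
  have h3 : (φ ^ 2 ^ k) (a : E) = a := by
    have h4 := h2.mul_const u
    rw [← hu] at h4
    rw [coe_pow_iterate]; exact h4
  rw [mem_negPart.mp a.2] at h3
  obtain ⟨l, hl⟩ := hodd
  have h4 : (a : E) * a = 1 := by
    calc (a : E) * a = (a : E)⁻¹ * a := by rw [h3]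
      _ = 1 := inv_mul_cancel _
  have h5 : (a : E) ^ Nat.card E = 1 := pow_card_eq_one'
  rw [hl, pow_succ, pow_mul, sq, h4, one_pow, one_mul] at h5
  exact Subtype.ext h5

/-- A nontrivial top power gives a nontrivial inverted label. -/
theorem one_lt_card_negPart {τ : MulAut E} (hτ : τ * τ = 1) (hne : τ ≠ 1) :
    1 < Nat.card (negPart τ) := by
  obtain ⟨a, ha⟩ : ∃ a, τ a ≠ a := by
    by_contra hall
    push Not at hall
    exact hne (MulEquiv.ext hall)
  have hmem : a * (τ a)⁻¹ ∈ negPart τ := by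
    rw [mem_negPart, map_mul, map_inv, ← MulAut.mul_apply, hτ, MulAut.one_apply, mul_inv, inv_inv,
      mul_comm]
  haveI : Nontrivial (negPart τ) := ⟨⟨⟨_, hmem⟩, 1, fun e1 => ha
    (mul_inv_eq_one.mp (congrArg Subtype.val e1)).symm⟩⟩
  exact Finite.one_lt_card

omit [IsAlgClosed K] [FiniteDimensional K U] [Nontrivial U] in
theorem geom_eq_zero {m : ℕ} (hβm : β ^ m = 1) (hfix : ∀ v, β v = v → v = 0) :
    ∑ i ∈ Finset.range m, β ^ i = 0 := by
  refine LinearMap.ext fun v => hfix _ ?_
  have h1 : β * (∑ i ∈ Finset.range m, β ^ i) = ∑ i ∈ Finset.range m, β ^ i := by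
    rw [← sub_eq_zero]
    calc β * (∑ i ∈ Finset.range m, β ^ i) - ∑ i ∈ Finset.range m, β ^ i
        = (β - 1) * ∑ i ∈ Finset.range m, β ^ i := by rw [sub_mul, one_mul]
      _ = 0 := by rw [mul_geom_sum, hβm, sub_self]
  exact LinearMap.congr_fun h1 v

/-- The action is trivial on the fixed labels in the irreducible case. -/
theorem fixed_of_irreducible (h : Twisted e c) (hE : (Nat.card E : K) ≠ 0)
    (hodd : Odd (Nat.card E)) (h2 : (2 : K) ≠ 0) (hφm : φ ^ 2 ^ (k + 1) = 1)
    (hτ : φ ^ 2 ^ k ≠ 1) (hβe : ∀ a, β * e a = s a • (e (φ a) * β)) (hβm : β ^ 2 ^ (k + 1) = 1)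
    (hfix : ∀ v, β v = v → v = 0)
    (hirr : ∀ S : Submodule K U, (∀ a, ∀ v ∈ S, e a v ∈ S) → (∀ v ∈ S, β v ∈ S) → S ≠ ⊥ → S = ⊤)
    {a : E} (ha : (φ ^ 2 ^ k) a = a) : φ a = a := by
  classical
  set τ := φ ^ 2 ^ k with hτdef
  set m := 2 ^ (k + 1) with hm
  have hm1 : 1 < m := Nat.one_lt_two_pow (Nat.succ_ne_zero k)
  have hmK : (m : K) ≠ 0 := by rw [hm, Nat.cast_pow]; exact pow_ne_zero _ (by exact_mod_cast h2)
  have hτ2 : τ * τ = 1 := top_sq hφm
  have hβu : IsUnit β := isUnit_of_pow (m := m - 1) (by rw [Nat.sub_add_cancel hm1.le]; exact hβm)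
  have hκτ : ∀ a b, h.κ (τ a) (τ b) = h.κ a b := κ_map_pow h hβe hβu _
  have hm0 := twisted_negPart h hodd hτ2 hκτ
  let φm := Alperin.restrict φ (negPart τ) (negPart_iff (Commute.self_pow φ _))
  haveI := Fintype.ofFinite (negPart τ)
  have hEm : (Nat.card (negPart τ) : K) ≠ 0 := fun h0 => hE (by
    obtain ⟨d, hd⟩ := (negPart τ).card_subgroup_dvd_card
    rw [hd, Nat.cast_mul, h0, zero_mul])
  have hfree := free_negPart hodd hφm
  have hfree1 : ∀ x, φm x = x → x = 1 := fun x hx => hfree 1 Nat.one_pos hm1 x (by rwa [pow_one])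
  have hs0 : ∀ x, s x ≠ 0 := fun x h0 => (hβu.mul (h.isUnit_e x)).ne_zero (by
    rw [hβe, h0, zero_smul])
  have hβm' : ∀ x : negPart τ, β * e x = s x • (e (φm x : E) * β) := fun x => hβe x
  set u := hm0.avg β with hu
  obtain ⟨χ, hχ⟩ := hm0.eq_mul_avg (φ := φm) hβm' (fun x => hs0 x) hEm hfree1
  set b := ∑ d, χ d • e (d : E) with hb
  have hbe : ∀ x, τ x = x → Commute (e x) b := fun x hx => by
    rw [hb]
    refine Commute.sum_right _ _ _ fun d _ => Commute.smul_right ?_ _
    show e x * e (d : E) = e (d : E) * e x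
    rw [h.comm, κ_eq_one h hodd hκτ hx d.2, one_smul]
  have hub : Commute u b := by
    rw [hb]
    exact Commute.sum_right _ _ _ fun d _ => Commute.smul_right (hm0.commute_avg d β).symm _
  -- an eigenvalue
  have key : ∀ l : K, Module.End.eigenspace u l ≠ ⊥ →
      (∑ i ∈ Finset.range m, (l • b) ^ i = 0) ∧ (l • b) ^ m = 1 ∧
        ∀ μ : K, μ ^ m = 1 → μ ≠ 1 → ∃ v, v ≠ 0 ∧ (l • b) v = μ • v := by
    intro l hl
    obtain ⟨hcard, heig⟩ := exists_irreducible_count hm0 hEm (one_lt_card_negPart hτ2 hτ) hm1 hmK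
      (MulEquiv.ext fun x => Subtype.ext (by rw [Alperin.restrict_pow, hφm]; rfl)) hfree β
      (fun x => s x) hβm' hβm hfix hl
    let W := Module.End.eigenspace u l
    have hW : ∀ (d : negPart τ), ∀ v ∈ W, e (d : E) v ∈ W := fun d v hv => by
      rw [Module.End.mem_eigenspace_iff] at hv ⊢
      rw [← Module.End.mul_apply, ← (hm0.commute_avg d β).eq, Module.End.mul_apply, hv, map_smul]
    have hagree : ∀ v ∈ W, β v = (l • b) v := fun v hv => by
      rw [hχ, Module.End.mul_apply, Module.End.mem_eigenspace_iff.mp hv, map_smul, LinearMap.smul_apply]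
    have hβW : ∀ v ∈ W, β v ∈ W := fun v hv => by
      rw [Module.End.mem_eigenspace_iff] at hv ⊢
      rw [← Module.End.mul_apply, ← (hm0.commute_self_avg hβm' fun x => hs0 x).eq,
        Module.End.mul_apply, hv, map_smul]
    have hpw : ∀ (i : ℕ), ∀ v ∈ W, ((l • b) ^ i) v = (β ^ i) v ∧ (β ^ i) v ∈ W := by
      intro i
      induction i with
      | zero => intro v hv; exact ⟨rfl, hv⟩
      | succ i ih =>
        intro v hv
        obtain ⟨e1, e2⟩ := ih v hv
        rw [pow_succ', pow_succ', Module.End.mul_apply, Module.End.mul_apply, e1, hagree _ e2]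
        exact ⟨rfl, hagree _ e2 ▸ hβW _ e2⟩
    -- the translates of the eigenspace span
    let S : Submodule K U := ⨆ x : E, W.map (e x)
    have hS : S = ⊤ := by
      refine hirr S (fun x v hv => ?_) (fun v hv => ?_) ?_
      · have hle : S ≤ S.comap (e x) := iSup_le fun y => by
          rintro _ ⟨w, hw, rfl⟩
          show e x (e y w) ∈ S
          rw [← Module.End.mul_apply, h.mul, LinearMap.smul_apply]
          exact S.smul_mem _ (Submodule.mem_iSup_of_mem (x * y) (Submodule.mem_map_of_mem hw))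
        exact hle hv
      · have hle : S ≤ S.comap β := iSup_le fun y => by
          rintro _ ⟨w, hw, rfl⟩
          show β (e y w) ∈ S
          rw [← Module.End.mul_apply, hβe, LinearMap.smul_apply]
          exact S.smul_mem _ (Submodule.mem_iSup_of_mem (φ y) (Submodule.mem_map_of_mem (hβW w hw)))
        exact hle hv
      · obtain ⟨w, hw, hw0⟩ := W.exists_mem_ne_zero_of_ne_bot hl
        refine (Submodule.ne_bot_iff _).mpr ⟨w, Submodule.mem_iSup_of_mem 1 ⟨w, hw, ?_⟩, hw0⟩
        rw [h.one]; rfl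
    have hext : ∀ F : Module.End K U, (∀ x, τ x = x → Commute (e x) F) → (∀ w ∈ W, F w = 0) →
        F = 0 := by
      intro F hF hFW
      have hle : S ≤ LinearMap.ker F := iSup_le fun y => by
        rintro _ ⟨w, hw, rfl⟩
        obtain ⟨x, z, hx, hz, rfl⟩ := exists_decomposition hodd hτ2 y
        have h1 : e (x * z) = (c x z)⁻¹ • (e x * e z) := by
          rw [h.mul, smul_smul, inv_mul_cancel₀ (h.c_ne _ _), one_smul]
        rw [LinearMap.mem_ker, h1, LinearMap.smul_apply, map_smul, ← Module.End.mul_apply,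
          ← mul_assoc, ← (hF x hx).eq, Module.End.mul_apply, Module.End.mul_apply,
          hFW _ (hW ⟨z, hz⟩ w hw), map_zero, smul_zero]
      exact LinearMap.ker_eq_top.mp (top_unique (hS ▸ hle))
    refine ⟨hext _ (fun x hx => Commute.sum_right _ _ _ fun i _ =>
        ((hbe x hx).smul_right l).pow_right i) fun w hw => ?_, ?_, fun μ hμ hμ1 => ?_⟩
    · rw [LinearMap.sum_apply, Finset.sum_congr rfl fun i _ => (hpw i w hw).1, ← LinearMap.sum_apply,
        geom_eq_zero hβm hfix, LinearMap.zero_apply]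
    · rw [← sub_eq_zero]
      refine hext _ (fun x hx => (((hbe x hx).smul_right l).pow_right m).sub_right (Commute.one_right _))
        fun w hw => ?_
      rw [LinearMap.sub_apply, (hpw m w hw).1, hβm, sub_self]
    · obtain ⟨v, hv0, hvW, hv⟩ := heig μ hμ hμ1
      exact ⟨v, hv0, (hagree v hvW).symm.trans hv⟩
  obtain ⟨l, hl'⟩ := Module.End.exists_eigenvalue u
  have hl : Module.End.eigenspace u l ≠ ⊥ := hl'
  obtain ⟨-, hlm, hlev⟩ := key l hl
  have hlne : l ≠ 0 := fun h0 => one_ne_zero (α := Module.End K U)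
    (by rw [← hlm, h0, zero_smul, zero_pow (by omega)])
  have huniq : ∀ l', Module.End.eigenspace u l' ≠ ⊥ → l' = l := by
    intro l' hl'
    obtain ⟨hg, hm', -⟩ := key l' hl'
    by_contra hne
    set ζ := l' / l with hζ
    have hζ1 : ζ ≠ 1 := fun h1 => hne ((div_eq_one_iff_eq hlne).mp h1)
    have hbl : l' • b = ζ • (l • b) := by rw [smul_smul, hζ, div_mul_cancel₀ _ hlne]
    have hζm : ζ ^ m = 1 := by
      rw [hbl, smul_pow, hlm] at hm'
      exact smul_left_injective K (one_ne_zero (α := Module.End K U))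
        (show ζ ^ m • (1 : Module.End K U) = (1 : K) • 1 by rw [one_smul]; exact hm')
    obtain ⟨v, hv0, hv⟩ := hlev ζ⁻¹ (by rw [inv_pow, hζm, inv_one]) fun h1 => hζ1 (inv_eq_one.mp h1)
    have hfixv : (l' • b) v = v := by
      rw [hbl, LinearMap.smul_apply, hv, smul_smul, mul_inv_cancel₀ (fun h0 => by
        rw [h0, zero_pow (by omega)] at hζm; exact zero_ne_one hζm), one_smul]
    have hp : ∀ i : ℕ, ((l' • b) ^ i) v = v := by
      intro i
      induction i with
      | zero => rfl
      | succ i ih => rw [pow_succ, Module.End.mul_apply, hfixv, ih]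
    have := LinearMap.congr_fun hg v
    rw [LinearMap.sum_apply, Finset.sum_congr rfl fun i _ => hp i, Finset.sum_const, Finset.card_range,
      LinearMap.zero_apply, ← Nat.cast_smul_eq_nsmul K] at this
    exact hv0 ((smul_eq_zero.mp this).resolve_left hmK)
  -- the average is scalar
  have hul : u = l • 1 := by
    have hum : u ^ m = l ^ m • 1 := by
      have h1 : (b * u) ^ m = 1 := hχ ▸ hβm
      rw [hub.symm.mul_pow] at h1
      rw [smul_pow] at hlm
      calc u ^ m = (l ^ m • b ^ m) * u ^ m := by rw [hlm, one_mul]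
        _ = _ := by rw [smul_mul_assoc, h1]
    set Q := ∑ i ∈ Finset.range m, u ^ i * (l • (1 : Module.End K U)) ^ (m - 1 - i) with hQ
    have hprod : Q * (u - l • 1) = 0 := by
      rw [hQ, (Commute.smul_right (Commute.one_right u) l).geom_sum₂_mul, smul_pow, one_pow, hum,
        sub_self]
    have hker : LinearMap.ker Q = ⊥ := by
      by_contra hne
      have hcom : Commute u Q := Commute.sum_right _ _ _ fun i _ =>
        ((Commute.refl u).pow_right i).mul_right ((Commute.smul_right (Commute.one_right u) l).pow_right _)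
      have hinv : ∀ v ∈ LinearMap.ker Q, u v ∈ LinearMap.ker Q := fun v hv => by
        rw [LinearMap.mem_ker] at hv ⊢
        rw [← Module.End.mul_apply, ← hcom.eq, Module.End.mul_apply, hv, map_zero]
      haveI : Nontrivial (LinearMap.ker Q) := Submodule.nontrivial_iff_ne_bot.mpr hne
      obtain ⟨l', hl''⟩ := Module.End.exists_eigenvalue (u.restrict hinv)
      obtain ⟨⟨v, hvQ⟩, hv⟩ := hl''.exists_hasEigenvector
      have hv0 : v ≠ 0 := fun e1 => hv.2 (Subtype.ext e1)
      have huv : u v = l' • v := congrArg Subtype.val hv.apply_eq_smul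
      have hl'l : l' = l := huniq l' ((Submodule.ne_bot_iff _).mpr
        ⟨v, Module.End.mem_eigenspace_iff.mpr huv, hv0⟩)
      rw [hl'l] at huv
      have hpow : ∀ i : ℕ, (u ^ i) v = l ^ i • v := by
        intro i
        induction i with
        | zero => simp
        | succ i ih => rw [pow_succ', Module.End.mul_apply, ih, map_smul, huv, smul_smul, pow_succ]
      have hQv : Q v = ((m : K) * l ^ (m - 1)) • v := by
        rw [hQ, LinearMap.sum_apply, Finset.sum_congr rfl (g := fun _ => l ^ (m - 1) • v) fun i hi => by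
          rw [Module.End.mul_apply, smul_pow, one_pow, LinearMap.smul_apply, Module.End.one_apply, map_smul,
            hpow, smul_smul, ← pow_add]
          congr 2
          have := Finset.mem_range.mp hi
          omega]
        rw [Finset.sum_const, Finset.card_range, ← Nat.cast_smul_eq_nsmul K, smul_smul]
      rw [LinearMap.mem_ker.mp hvQ] at hQv
      exact hv0 ((smul_eq_zero.mp hQv.symm).resolve_left (mul_ne_zero hmK (pow_ne_zero _ hlne)))
    rw [← sub_eq_zero]
    refine LinearMap.ext fun v => LinearMap.ker_eq_bot.mp hker ?_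
    rw [LinearMap.zero_apply, map_zero, ← Module.End.mul_apply, hprod, LinearMap.zero_apply]
  have hβb : β = l • b := by rw [hχ, ← hu, hul, mul_smul_comm, mul_one]
  have hcomm : e a = s a • e (φ a) := by
    refine hβu.mul_right_cancel ?_
    rw [smul_mul_assoc, ← hβe a, hβb]
    exact ((hbe a ha).smul_right l).eq
  by_contra hne
  obtain ⟨y, hy⟩ := h.exists_κ_ne_one (a := φ a * a⁻¹) fun h1 => hne (mul_inv_eq_one.mp h1)
  have heq : h.κ y (φ a) = h.κ y a := by
    have h1 := h.comm y a
    rw [hcomm, mul_smul_comm, smul_mul_assoc, smul_comm, h.comm y (φ a)] at h1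
    have h2 : e (φ a) * e y ≠ 0 := ((h.isUnit_e _).mul (h.isUnit_e _)).ne_zero
    exact smul_left_injective K h2 (smul_right_injective _ (hs0 a) h1)
  refine hy ?_
  have h1 := h.κ_mul_right y (φ a * a⁻¹) a
  rw [inv_mul_cancel_right, heq] at h1
  exact (mul_eq_right₀ (h.κ_ne y a)).mp h1.symm

/-- The dichotomy. -/
theorem exists_neg_vector (h : Twisted e c) (hE : (Nat.card E : K) ≠ 0)
    (hodd : Odd (Nat.card E)) (h2 : (2 : K) ≠ 0) (hφm : φ ^ 2 ^ (k + 1) = 1)
    (hτ : φ ^ 2 ^ k ≠ 1) (hβe : ∀ a, β * e a = s a • (e (φ a) * β)) (hβm : β ^ 2 ^ (k + 1) = 1)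
    (hfix : ∀ v, β v = v → v = 0) :
    1 ≤ k ∧ (∀ a, (φ ^ 2 ^ k) a = a → φ a = a) ∧
      ∃ v, v ≠ 0 ∧ (β ^ 2 ^ k) v = v ∧ (β ^ 2 ^ (k - 1)) v = -v := by
  classical
  set τ := φ ^ 2 ^ k with hτdef
  set m := 2 ^ (k + 1) with hm
  have hm1 : 1 < m := Nat.one_lt_two_pow (Nat.succ_ne_zero k)
  have hmK : (m : K) ≠ 0 := by rw [hm, Nat.cast_pow]; exact pow_ne_zero _ (by exact_mod_cast h2)
  have hτ2 : τ * τ = 1 := top_sq hφm
  have hβu : IsUnit β := isUnit_of_pow (m := m - 1) (by rw [Nat.sub_add_cancel hm1.le]; exact hβm)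
  have hm0 := twisted_negPart h hodd hτ2 (κ_map_pow h hβe hβu _)
  let φm := Alperin.restrict φ (negPart τ) (negPart_iff (Commute.self_pow φ _))
  haveI := Fintype.ofFinite (negPart τ)
  have hEm : (Nat.card (negPart τ) : K) ≠ 0 := fun h0 => hE (by
    obtain ⟨d, hd⟩ := (negPart τ).card_subgroup_dvd_card
    rw [hd, Nat.cast_mul, h0, zero_mul])
  obtain ⟨l, hl⟩ := Module.End.exists_eigenvalue (hm0.avg β)
  obtain ⟨hcard, heig⟩ := exists_irreducible_count hm0 hEm (one_lt_card_negPart hτ2 hτ) hm1 hmK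
      (MulEquiv.ext fun x => Subtype.ext (by rw [Alperin.restrict_pow, hφm]; rfl))
      (free_negPart hodd hφm) β (fun x => s x) (fun x => hβe x) hβm hfix hl
  have hk : 1 ≤ k := by
    by_contra hk0
    have hm2 : m = 2 := by rw [hm, show k = 0 by omega]; rfl
    have := one_lt_card_negPart hτ2 hτ
    rw [hcard, hm2] at this
    omega
  refine ⟨hk, fun a ha => ?_, ?_⟩
  · obtain ⟨S, hS⟩ := exists_minimal_of_wellFoundedLT
      (fun S : Submodule K U => S ≠ ⊥ ∧ (∀ a, ∀ v ∈ S, e a v ∈ S) ∧ ∀ v ∈ S, β v ∈ S)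
      ⟨⊤, top_ne_bot, fun _ _ _ => trivial, fun _ _ => trivial⟩
    obtain ⟨hS0, hSe, hSβ⟩ := hS.prop
    haveI : Nontrivial S := Submodule.nontrivial_iff_ne_bot.mpr hS0
    refine fixed_of_irreducible (h.restrict hSe) hE hodd h2 hφm hτ (β := β.restrict hSβ) (s := s)
      (fun x => LinearMap.ext fun v => Subtype.ext (LinearMap.congr_fun (hβe x) (v : U)))
      (LinearMap.ext fun v => Subtype.ext (by
        rw [Module.End.pow_restrict]
        show (β ^ 2 ^ (k + 1)) (v : U) = _
        rw [← hm, hβm]; rfl))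
      (fun v hv => Subtype.ext (hfix _ (congrArg Subtype.val hv))) ?_ ha
    intro T hTe hTβ hT0
    refine Submodule.map_injective_of_injective S.injective_subtype ?_
    rw [Submodule.map_top, Submodule.range_subtype]
    have e1 := hS.eq_of_le (y := T.map S.subtype) ⟨fun h0 => hT0
      (Submodule.map_injective_of_injective S.injective_subtype (by rw [h0, Submodule.map_bot])),
      fun x v hv => by
        obtain ⟨v, hv, rfl⟩ := hv
        exact ⟨_, hTe x v hv, rfl⟩,
      fun v hv => by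
        obtain ⟨v, hv, rfl⟩ := hv
        exact ⟨_, hTβ v hv, rfl⟩⟩ (Submodule.map_subtype_le S T)
    first | exact e1 | exact e1.symm
  · obtain ⟨μ, hμ⟩ := IsAlgClosed.exists_pow_nat_eq (-1 : K) (Nat.two_pow_pos (k - 1))
    have hμk : μ ^ 2 ^ k = 1 := by
      rw [show 2 ^ k = 2 ^ (k - 1) * 2 by rw [← pow_succ, Nat.sub_add_cancel hk], pow_mul, hμ]
      ring
    have hne : μ ≠ 1 := fun h1 => h2 (by
      rw [h1, one_pow] at hμ
      rw [← one_add_one_eq_two]
      nth_rewrite 2 [hμ]
      exact add_neg_cancel 1)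
    obtain ⟨v, hv0, -, hv⟩ := heig μ (by rw [hm, pow_succ 2 k, pow_mul, hμk, one_pow]) hne
    have hpow : ∀ i : ℕ, (β ^ i) v = μ ^ i • v := by
      intro i
      induction i with
      | zero => simp
      | succ i ih => rw [pow_succ', Module.End.mul_apply, ih, map_smul, hv, smul_smul, pow_succ]
    exact ⟨v, hv0, by rw [hpow, hμk, one_smul], by rw [hpow, hμ, neg_one_smul]⟩

end CfsgLib.PGroups.Gross
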