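import Mathlib
import Cfsg.Agent.Lib.PGroups.Gross.Restricted

/-!
# A group of class at most two with an operator of order `2 ^ n` without fixed vectors

* `Op.exists_period`: a weight is fixed by the top power
* `Op.neg_vector`: for a weight `θ` of the centre whose radical is moved by the top power `τ`, the
  power before `τ` is trivial where `τ` is, modulo the radical, and negates a vector fixed by `τ`
-/

set_option autoImplicit false
set_option linter.all false

namespace CfsgLib.PGroups.Gross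

open CfsgLib.PGroups.ShultGross CfsgLib.PGroups.Alperin
open scoped commutatorElement

variable {K : Type*} [Field K] {V : Type*} [AddCommGroup V] [Module K V] {Q : Type*} [Group Q]

/-- A compatible operator without fixed vectors. -/
structure Op (n : ℕ) (φ : MulAut Q) (ρ : Q →* Module.End K V) (S : Module.End K V) : Prop where
  pow : φ ^ 2 ^ n = 1
  spow : S ^ 2 ^ n = 1
  compat : ∀ x, S * ρ x = ρ (φ x) * S
  fix : ∀ v, S v = v → v = 0

namespace Op

variable {n : ℕ} {φ : MulAut Q} {ρ : Q →* Module.End K V} {S : Module.End K V}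

theorem spow_compat (h : Op n φ ρ S) (i : ℕ) (x : Q) : S ^ i * ρ x = ρ ((φ ^ i) x) * S ^ i := by
  induction i generalizing x with
  | zero => simp
  | succ i ih =>
    rw [pow_succ', mul_assoc, ih, ← mul_assoc, h.compat, mul_assoc, pow_succ' φ, MulAut.mul_apply]

theorem restrict (h : Op n φ ρ S) (H : Subgroup Q) (hH : ∀ x, x ∈ H ↔ φ x ∈ H) :
    Op n (Alperin.restrict φ H hH) (ρ.comp H.subtype) S :=
  { pow := MulEquiv.ext fun x => Subtype.ext (by rw [restrict_pow, h.pow]; rfl)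
    spow := h.spow
    compat := fun x => h.compat x
    fix := h.fix }

/-- The period of a weight is smaller than the order, and that power fixes no weight vector. -/
theorem exists_period (h : Op n φ ρ S) {θ : Q →* Kˣ} {v : V} (hv0 : v ≠ 0)
    (hv : ∀ x, ρ x v = (θ x : K) • v) :
    ∃ j, j < n ∧ (∀ x, θ ((φ ^ 2 ^ j) x) = θ x) ∧
      ∀ w : V, (∀ x, ρ x w = (θ x : K) • w) → (S ^ 2 ^ j) w = w → w = 0 := by
  let f : (Q →* Kˣ) → (Q →* Kˣ) := fun ξ => ξ.comp (φ⁻¹ : MulAut Q).toMonoidHom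
  have hit : ∀ (i : ℕ) (ξ : Q →* Kˣ) x, (f^[i]) ξ ((φ ^ i) x) = ξ x := by
    intro i
    induction i with
    | zero => intro ξ x; rfl
    | succ i ih =>
      intro ξ x
      rw [Function.iterate_succ_apply', pow_succ', MulAut.mul_apply]
      show (f^[i]) ξ (φ⁻¹ (φ ((φ ^ i) x))) = ξ x
      rw [MulAut.inv_apply_self, ih]
  have hinj : Function.Injective f := fun a b hab => MonoidHom.ext fun x => by
    have := DFunLike.congr_fun hab (φ x)
    simpa [f] using this
  obtain ⟨j, hj, hjx, hjmin⟩ := ShultGross.exists_period f θ Nat.prime_two (n := n)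
    (MonoidHom.ext fun x => by
      have := hit (2 ^ n) θ x
      rwa [h.pow, MulAut.one_apply] at this)
  have hfree : ∀ w : V, (∀ x, ρ x w = (θ x : K) • w) → (S ^ 2 ^ j) w = w → w = 0 := by
    intro w hw hfix
    by_contra hw0
    have hwt : ∀ i, i < 2 ^ j → ∀ x, ρ x ((S ^ i) w) = ((f^[i]) θ x : K) • (S ^ i) w := by
      intro i _ x
      obtain ⟨x, rfl⟩ := (φ ^ i).surjective x
      rw [hit, ← Module.End.mul_apply, ← h.spow_compat, Module.End.mul_apply, hw, map_smul]
    obtain ⟨h0, h1⟩ := exists_fixed_of_orbit (fun x => ρ x) (Nat.two_pow_pos j)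
      (fun i x => ((f^[i]) θ x : K)) hw0 hfix hwt fun i k hik hk he => by
        have h1 : (f^[i]) θ = (f^[k]) θ := MonoidHom.ext fun x => Units.ext (congrFun he x)
        refine hjmin (k - i) (by omega) (by omega) ?_
        refine hinj.iterate i ?_
        rw [← Function.iterate_add_apply, show i + (k - i) = k by omega, h1]
    exact h0 (h.fix _ h1)
  refine ⟨j, ?_, fun x => ?_, hfree⟩
  · rcases lt_or_eq_of_le hj with hlt | heq
    · exact hlt
    · exact absurd (hfree v hv (by rw [heq, h.spow]; rfl)) hv0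
  · have := hit (2 ^ j) θ x
    rwa [hjx] at this

/-- A weight is fixed by the top power. -/
theorem weight_top (h : Op n φ ρ S) {θ : Q →* Kˣ} {v : V} (hv0 : v ≠ 0)
    (hv : ∀ x, ρ x v = (θ x : K) • v) (x : Q) : θ ((φ ^ 2 ^ (n - 1)) x) = θ x := by
  obtain ⟨j, hj, hjx, -⟩ := h.exists_period hv0 hv
  have key : ∀ (u : ℕ) y, θ ((φ ^ (2 ^ j * u)) y) = θ y := by
    intro u
    induction u with
    | zero => intro y; simp
    | succ u ih => intro y; rw [Nat.mul_succ, pow_add, MulAut.mul_apply, ih, hjx]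
  obtain ⟨u, hu⟩ : 2 ^ j ∣ 2 ^ (n - 1) := pow_dvd_pow 2 (by omega)
  rw [hu, key]

variable [IsAlgClosed K] [Finite Q]

/-- The top power is invisible on a commutative group of operators. -/
theorem top_eq (h : Op n φ ρ S) (hQK : (Nat.card Q : K) ≠ 0)
    (hcomm : ∀ a b, ρ a * ρ b = ρ b * ρ a) (x : Q) : ρ ((φ ^ 2 ^ (n - 1)) x) = ρ x := by
  refine LinearMap.ext_on (span_weights_of_commute hQK ρ hcomm) ?_
  rintro v ⟨θ, hθ⟩
  by_cases hv : v = 0
  · subst hv; simp
  rw [hθ, hθ, h.weight_top hv hθ]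

end Op

/-- The commutator as an element of the centre. -/
def cm (hz : ∀ x y : Q, ⁅x, y⁆ ∈ Subgroup.center Q) (x y : Q) : Subgroup.center Q :=
  ⟨⁅x, y⁆, hz x y⟩

section cm

variable (hz : ∀ x y : Q, ⁅x, y⁆ ∈ Subgroup.center Q)

theorem center_comm (z : Subgroup.center Q) (g : Q) : (z : Q) * g = g * z :=
  (Subgroup.mem_center_iff.mp z.2 g).symm

theorem cm_mul (x x' y : Q) : cm hz (x * x') y = cm hz x y * cm hz x' y := Subtype.ext (by
  show ⁅x * x', y⁆ = ⁅x, y⁆ * ⁅x', y⁆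
  have e : ⁅x * x', y⁆ = x * ⁅x', y⁆ * x⁻¹ * ⁅x, y⁆ := by simp [commutatorElement_def, mul_assoc]
  rw [e, ← center_comm ⟨_, hz x' y⟩ x, mul_inv_cancel_right, center_comm ⟨_, hz x' y⟩])

theorem cm_one (y : Q) : cm hz 1 y = 1 := Subtype.ext (commutatorElement_one_left y)

theorem cm_swap (x y : Q) : cm hz y x = (cm hz x y)⁻¹ :=
  Subtype.ext (commutatorElement_inv x y).symm

theorem cm_center (z : Subgroup.center Q) (y : Q) : cm hz z y = 1 :=
  Subtype.ext (commutatorElement_eq_one_iff_mul_comm.mpr (center_comm z y))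

/-- The radical of a weight of the centre. -/
def rad (θ : Subgroup.center Q →* Kˣ) : Subgroup Q where
  carrier := {x | ∀ y, θ (cm hz x y) = 1}
  one_mem' := fun y => by rw [cm_one, map_one]
  mul_mem' := fun {a b} ha hb y => by rw [cm_mul, map_mul, ha y, hb y, one_mul]
  inv_mem' := fun {a} ha y => by
    have := cm_mul hz a⁻¹ a y
    rw [inv_mul_cancel, cm_one] at this
    have := congrArg θ this
    rw [map_one, map_mul, ha y, mul_one] at this
    exact this.symm

theorem mem_rad {θ : Subgroup.center Q →* Kˣ} {x : Q} :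
    x ∈ rad hz θ ↔ ∀ y, θ (cm hz x y) = 1 := Iff.rfl

theorem center_le_rad (θ : Subgroup.center Q →* Kˣ) : Subgroup.center Q ≤ rad hz θ :=
  fun z h y => by rw [cm_center hz ⟨z, h⟩ y, map_one]

theorem rad_normal (θ : Subgroup.center Q →* Kˣ) : (rad hz θ).Normal := ⟨fun x hx g => by
  have : g * x * g⁻¹ = ⁅g, x⁆ * x := by simp [commutatorElement_def]
  rw [this]; exact mul_mem (center_le_rad hz θ (hz g x)) hx⟩

theorem rho_comm (ρ : Q →* Module.End K V) (x y : Q) :
    ρ x * ρ y = ρ (cm hz x y : Q) * (ρ y * ρ x) := by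
  rw [← map_mul, ← map_mul, ← map_mul]
  congr 1
  show x * y = ⁅x, y⁆ * (y * x)
  simp [commutatorElement_def, mul_assoc]

theorem cm_map (φ : MulAut Q) (x y : Q) : ((cm hz (φ x) (φ y) : Subgroup.center Q) : Q) =
    φ (cm hz x y : Q) := (map_commutatorElement φ x y).symm

/-- An automorphism fixing the weight leaves the radical invariant. -/
theorem rad_iff {θ : Subgroup.center Q →* Kˣ} {φ : MulAut Q}
    (hθ : ∀ z w : Subgroup.center Q, (w : Q) = φ z → θ w = θ z) (x : Q) :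
    x ∈ rad hz θ ↔ φ x ∈ rad hz θ := by
  constructor
  · intro hx y
    obtain ⟨y, rfl⟩ := φ.surjective y
    rw [hθ _ _ (cm_map hz φ x y), hx y]
  · intro hx y
    rw [← hθ _ _ (cm_map hz φ x y)]
    exact hx _

end cm

variable [IsAlgClosed K] [FiniteDimensional K V] [Finite Q]

/-- The case where the centre acts by scalars. -/
theorem neg_vector_central [Nontrivial V] {n : ℕ} {φ : MulAut Q} {ρ : Q →* Module.End K V}
    {S : Module.End K V} (h : Op n φ ρ S) (hodd : Odd (Nat.card Q)) (hQK : (Nat.card Q : K) ≠ 0)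
    (h2 : (2 : K) ≠ 0) (hz : ∀ x y : Q, ⁅x, y⁆ ∈ Subgroup.center Q)
    {θ : Subgroup.center Q →* Kˣ} (hscal : ∀ (z : Subgroup.center Q) v, ρ z v = (θ z : K) • v)
    (hθφ : ∀ z w : Subgroup.center Q, (w : Q) = φ z → θ w = θ z) {x₀ : Q}
    (hx₀ : x₀⁻¹ * (φ ^ 2 ^ (n - 1)) x₀ ∉ rad hz θ) :
    2 ≤ n ∧ (∀ x, x⁻¹ * (φ ^ 2 ^ (n - 1)) x ∈ rad hz θ → x⁻¹ * (φ ^ 2 ^ (n - 2)) x ∈ rad hz θ) ∧
      ∃ v, v ≠ 0 ∧ (S ^ 2 ^ (n - 1)) v = v ∧ (S ^ 2 ^ (n - 2)) v = -v := by
  classical
  set R := rad hz θ with hR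
  haveI hRn : R.Normal := rad_normal hz θ
  have hRφ : ∀ x, x ∈ R ↔ φ x ∈ R := rad_iff hz hθφ
  -- a weight of the radical
  obtain ⟨θ', v₂, hv₂0, hv₂⟩ : ∃ (θ' : R →* Kˣ) (v : V), v ≠ 0 ∧
      ∀ r : R, ρ (r : Q) v = (θ' r : K) • v := by
    have hspan := span_weights_of_commute (fun h0 => hQK (by
        obtain ⟨d, hd⟩ := R.card_subgroup_dvd_card
        rw [hd, Nat.cast_mul, h0, zero_mul])) (ρ.comp R.subtype)
      fun a b => LinearMap.ext fun v => by
        show (ρ (a : Q) * ρ (b : Q)) v = (ρ (b : Q) * ρ (a : Q)) v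
        rw [rho_comm hz, Module.End.mul_apply, hscal, a.2 b, Units.val_one, one_smul]
    by_contra hall
    push Not at hall
    have hbot : Submodule.span K
        {v : V | ∃ θ' : R →* Kˣ, ∀ r, (ρ.comp R.subtype) r v = (θ' r : K) • v} = ⊥ := by
      rw [Submodule.span_eq_bot]
      rintro v ⟨θ', hθ'⟩
      by_contra hv
      obtain ⟨r, hr⟩ := hall θ' v hv
      exact hr (hθ' r)
    rw [hspan] at hbot
    exact top_ne_bot hbot
  obtain ⟨i, hin, hiθ, hifree⟩ := (h.restrict R hRφ).exists_period hv₂0 (θ := θ') hv₂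
  obtain ⟨k, rfl⟩ : ∃ k, n = i + (k + 1) := ⟨n - i - 1, by omega⟩
  set U := wspace (fun r : R => ρ (r : Q)) (fun r => (θ' r : K)) with hU
  haveI : Nontrivial U := ⟨⟨⟨v₂, hv₂⟩, 0, fun e1 => hv₂0 (congrArg Subtype.val e1)⟩⟩
  set γ := S ^ 2 ^ i with hγ
  have hγU : ∀ v ∈ U, γ v = v → v = 0 := fun v hv hfix => hifree v hv hfix
  let rep : Q ⧸ R → Q := fun a => if a = 1 then 1 else a.out
  have hrep : ∀ a : Q ⧸ R, ((rep a : Q) : Q ⧸ R) = a := fun a => by
    simp only [rep]
    split_ifs with ha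
    · exact ha.symm
    · exact QuotientGroup.out_eq' a
  letI : CommGroup (Q ⧸ R) :=
    { (inferInstance : Group (Q ⧸ R)) with
      mul_comm := fun a b => by
        induction a using QuotientGroup.induction_on with
        | H a =>
        induction b using QuotientGroup.induction_on with
        | H b =>
        show ((a * b : Q) : Q ⧸ R) = ((b * a : Q) : Q ⧸ R)
        rw [QuotientGroup.eq]
        have := center_le_rad hz θ (hz b⁻¹ a⁻¹)
        simpa [commutatorElement_def, mul_assoc] using this }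
  have hUinv : ∀ (x : Q), ∀ v ∈ U, ρ x v ∈ U := fun x v hv r => by
    show ρ (r : Q) (ρ x v) = _
    rw [← Module.End.mul_apply, rho_comm hz, Module.End.mul_apply, Module.End.mul_apply, hv r,
      map_smul, map_smul, hscal, r.2 x, Units.val_one, one_smul]
  let e : Q ⧸ R → Module.End K U := fun a => (ρ (rep a)).restrict (hUinv _)
  have hr1 : ∀ a b : Q ⧸ R, (rep (a * b))⁻¹ * (rep a * rep b) ∈ R := fun a b => by
    rw [← QuotientGroup.eq, QuotientGroup.mk_mul, hrep, hrep, hrep]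
  let c : Q ⧸ R → Q ⧸ R → K := fun a b => θ' ⟨_, hr1 a b⟩
  have hc : ∀ x (r : R), ∀ v ∈ U, ρ (x * r) v = (θ' r : K) • ρ x v := fun x r v hv => by
    rw [map_mul, Module.End.mul_apply, hv r, map_smul]
  have hT : Twisted e c :=
    { c_ne := fun a b => Units.ne_zero _
      mul := fun a b => LinearMap.ext fun v => Subtype.ext (by
        show ρ (rep a) (ρ (rep b) (v : V)) = c a b • ρ (rep (a * b)) (v : V)
        rw [← Module.End.mul_apply, ← map_mul, ← hc (rep (a * b)) ⟨_, hr1 a b⟩ v v.2,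
          mul_inv_cancel_left])
      one := LinearMap.ext fun v => Subtype.ext (by
        show ρ (rep 1) (v : V) = v
        simp [rep])
      nondeg := fun a ha => by
        have hna : rep a ∉ R := fun hmem => ha (by
          rw [← hrep a]; exact (QuotientGroup.eq_one_iff _).mpr hmem)
        rw [hR, mem_rad] at hna
        push Not at hna
        obtain ⟨y, hy⟩ := hna
        refine ⟨(y : Q ⧸ R), fun heq => hy ?_⟩
        have hyr : y⁻¹ * rep (y : Q ⧸ R) ∈ R := QuotientGroup.eq.mp (hrep _).symm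
        have hcmy : θ (cm hz (rep a) (rep (y : Q ⧸ R))) = θ (cm hz (rep a) y) := by
          rw [cm_swap, cm_swap hz y, map_inv, map_inv]
          congr 1
          have e1 : rep (y : Q ⧸ R) = y * (y⁻¹ * rep (y : Q ⧸ R)) := (mul_inv_cancel_left _ _).symm
          rw [e1, cm_mul, map_mul, hyr, mul_one]
        obtain ⟨v, hv⟩ := exists_ne (0 : U)
        have h1 : ρ (rep a) (ρ (rep (y : Q ⧸ R)) (v : V)) =
            ρ (rep (y : Q ⧸ R)) (ρ (rep a) (v : V)) :=
          congrArg Subtype.val (LinearMap.congr_fun heq v)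
        rw [← Module.End.mul_apply, rho_comm hz, Module.End.mul_apply, Module.End.mul_apply, hscal,
          hcmy] at h1
        have hne : ρ (rep (y : Q ⧸ R)) (ρ (rep a) (v : V)) ≠ 0 := fun h0 => hv (Subtype.ext (by
          have := congrArg (ρ ((rep (y : Q ⧸ R) * rep a)⁻¹)) h0
          rw [← Module.End.mul_apply (ρ (rep (y : Q ⧸ R))), ← map_mul, ← Module.End.mul_apply,
            ← map_mul, inv_mul_cancel, map_one, map_zero, Module.End.one_apply] at this
          exact this))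
        exact Units.ext (smul_left_injective K hne
          (show (θ (cm hz (rep a) y) : K) • ρ (rep (y : Q ⧸ R)) (ρ (rep a) (v : V)) = (1 : K) • _ by
            rw [one_smul]; exact h1)) }
  let φ0 : MulAut (Q ⧸ R) := onQuot φ R hRφ
  let φ1 : MulAut (Q ⧸ R) := φ0 ^ 2 ^ i
  let φr := Alperin.restrict φ R hRφ
  have hφ1m : φ1 ^ 2 ^ (k + 1) = 1 := MulEquiv.ext fun a => by
    induction a using QuotientGroup.induction_on with
    | H x => rw [← pow_mul, ← pow_add, onQuot_pow, h.pow]; rfl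
  have hφ1k : ∀ x : Q, (φ1 ^ 2 ^ k) (x : Q ⧸ R) =
      (((φ ^ 2 ^ (i + (k + 1) - 1)) x : Q) : Q ⧸ R) := fun x => by
    rw [← pow_mul, ← pow_add, onQuot_pow]; congr 2
  have hr2 : ∀ a : Q ⧸ R, (rep (φ1 a))⁻¹ * (φ ^ 2 ^ i) (rep a) ∈ R := fun a => by
    rw [← QuotientGroup.eq, hrep]
    conv_lhs => rw [← hrep a]
    rw [onQuot_pow]
  have hγUinv : ∀ v ∈ U, γ v ∈ U := by
    intro v hv r
    obtain ⟨r, rfl⟩ := (φr ^ 2 ^ i).surjective r
    show ρ (((φr ^ 2 ^ i) r : R) : Q) (γ v) = (θ' ((φr ^ 2 ^ i) r) : K) • γ v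
    rw [restrict_pow, hiθ, hγ, ← Module.End.mul_apply, ← h.spow_compat, Module.End.mul_apply, hv r,
      map_smul]
  obtain ⟨hk, hfixed, w, hw0, hw1, hw2⟩ := exists_neg_vector hT (φ := φ1) (k := k)
    (β := γ.restrict hγUinv) (s := fun a => (θ' ⟨_, hr2 a⟩ : K))
    (fun h0 => hQK (by
      obtain ⟨d, hd⟩ := R.card_quotient_dvd_card
      rw [hd, Nat.cast_mul, h0, zero_mul]))
    (hodd.of_dvd_nat R.card_quotient_dvd_card) h2 hφ1m
    (fun h1 => hx₀ (QuotientGroup.eq.mp (by
      rw [← hφ1k x₀, h1, MulAut.one_apply])))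
    (fun a => LinearMap.ext fun v => Subtype.ext (by
      show γ (ρ (rep a) (v : V)) = (θ' ⟨_, hr2 a⟩ : K) • ρ (rep (φ1 a)) (γ (v : V))
      rw [← Module.End.mul_apply, h.spow_compat, Module.End.mul_apply,
        ← hc (rep (φ1 a)) ⟨_, hr2 a⟩ _ (hγUinv v v.2), mul_inv_cancel_left]))
    (LinearMap.ext fun v => Subtype.ext (by
      rw [Module.End.pow_restrict]
      show (γ ^ 2 ^ (k + 1)) (v : V) = _
      rw [hγ, ← pow_mul, ← pow_add, h.spow]; rfl))
    (fun v hv => Subtype.ext (hγU _ v.2 (congrArg Subtype.val hv)))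
  have he2 : 2 ^ (i + (k + 1) - 2) = 2 ^ i * 2 ^ (k - 1) := by
    rw [← pow_add]; congr 1; omega
  refine ⟨by omega, fun x hx => ?_, (w : V), fun e1 => hw0 (Subtype.ext e1), ?_, ?_⟩
  · refine QuotientGroup.eq.mp ?_
    have hfix1 : φ1 (x : Q ⧸ R) = (x : Q ⧸ R) := hfixed _ (by
      rw [hφ1k]; exact (QuotientGroup.eq.mpr hx).symm)
    have hpow : ∀ l : ℕ, (φ1 ^ l) (x : Q ⧸ R) = (x : Q ⧸ R) := by
      intro l
      induction l with
      | zero => rfl
      | succ l ih => rw [pow_succ, MulAut.mul_apply, hfix1, ih]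
    rw [he2, ← onQuot_pow φ R hRφ, pow_mul]
    exact (hpow _).symm
  · have h1 := congrArg Subtype.val hw1
    rw [Module.End.pow_restrict] at h1
    rw [show i + (k + 1) - 1 = i + k by omega, pow_add 2 i k, pow_mul]
    exact h1
  · have h1 := congrArg Subtype.val hw2
    rw [Module.End.pow_restrict] at h1
    rw [he2, pow_mul]
    exact h1

/-- The dichotomy for a weight of the centre. -/
theorem Op.neg_vector {n : ℕ} {φ : MulAut Q} {ρ : Q →* Module.End K V} {S : Module.End K V}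
    (h : Op n φ ρ S) (hodd : Odd (Nat.card Q)) (hQK : (Nat.card Q : K) ≠ 0) (h2 : (2 : K) ≠ 0)
    (hz : ∀ x y : Q, ⁅x, y⁆ ∈ Subgroup.center Q) {θ : Subgroup.center Q →* Kˣ} {v : V}
    (hv0 : v ≠ 0) (hv : ∀ z : Subgroup.center Q, ρ z v = (θ z : K) • v) {x₀ : Q}
    (hx₀ : x₀⁻¹ * (φ ^ 2 ^ (n - 1)) x₀ ∉ rad hz θ) :
    2 ≤ n ∧ (∀ x, x⁻¹ * (φ ^ 2 ^ (n - 1)) x ∈ rad hz θ → x⁻¹ * (φ ^ 2 ^ (n - 2)) x ∈ rad hz θ) ∧
      ∃ v, v ≠ 0 ∧ (S ^ 2 ^ (n - 1)) v = v ∧ (S ^ 2 ^ (n - 2)) v = -v := by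
  obtain ⟨j, hj, hjθ, hjfree⟩ :=
    (h.restrict (Subgroup.center Q) (mem_iff_of_char φ _)).exists_period hv0 (θ := θ) hv
  obtain ⟨N, rfl⟩ : ∃ N, n = j + N := ⟨n - j, by omega⟩
  set W := wspace (fun z : Subgroup.center Q => ρ (z : Q)) (fun z => (θ z : K)) with hW
  haveI : Nontrivial W := ⟨⟨⟨v, hv⟩, 0, fun e1 => hv0 (congrArg Subtype.val e1)⟩⟩
  have hWinv : ∀ (x : Q), ∀ w ∈ W, ρ x w ∈ W := fun x w hw z => by
    show ρ (z : Q) (ρ x w) = _
    rw [← Module.End.mul_apply, ← map_mul, center_comm, map_mul, Module.End.mul_apply, hw z, map_smul]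
  have hθd : ∀ z w : Subgroup.center Q, (w : Q) = (φ ^ 2 ^ j) z → θ w = θ z := fun z w hzw => by
    rw [← hjθ z]
    congr 1
    exact Subtype.ext (by rw [restrict_pow]; exact hzw)
  have hSW : ∀ w ∈ W, (S ^ 2 ^ j) w ∈ W := by
    intro w hw z
    obtain ⟨z', hz'⟩ := (φ ^ 2 ^ j).surjective (z : Q)
    have hmem : z' ∈ Subgroup.center Q := by
      rw [mem_iff_of_char (φ ^ 2 ^ j) (Subgroup.center Q), hz']; exact z.2
    show ρ (z : Q) ((S ^ 2 ^ j) w) = (θ z : K) • (S ^ 2 ^ j) w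
    rw [hθd ⟨z', hmem⟩ z hz'.symm, ← hz', ← Module.End.mul_apply, ← h.spow_compat,
      Module.End.mul_apply, hw ⟨z', hmem⟩, map_smul]
  let ρW : Q →* Module.End K W :=
    { toFun := fun x => (ρ x).restrict (hWinv x)
      map_one' := LinearMap.ext fun w => Subtype.ext (by simp [LinearMap.restrict_apply])
      map_mul' := fun x y => LinearMap.ext fun w => Subtype.ext (by simp [LinearMap.restrict_apply]) }
  have hop : Op N (φ ^ 2 ^ j) ρW ((S ^ 2 ^ j).restrict hSW) :=
    { pow := by rw [← pow_mul, ← pow_add, h.pow]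
      spow := LinearMap.ext fun w => Subtype.ext (by
        rw [Module.End.pow_restrict]
        show ((S ^ 2 ^ j) ^ 2 ^ N) (w : V) = _
        rw [← pow_mul, ← pow_add, h.spow]; rfl)
      compat := fun x => LinearMap.ext fun w => Subtype.ext
        (LinearMap.congr_fun (h.spow_compat (2 ^ j) x) (w : V))
      fix := fun w hw => Subtype.ext (hjfree w w.2 (congrArg Subtype.val hw)) }
  have hexp : ∀ l, 1 ≤ N → l ≤ N → 2 ^ j * 2 ^ (N - l) = 2 ^ (j + N - l) := fun l _ hl => by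
    rw [← pow_add]; congr 1; omega
  obtain ⟨hN, hfix, w, hw0, hw1, hw2⟩ := neg_vector_central hop hodd hQK h2 hz (θ := θ)
    (fun z w => Subtype.ext (w.2 z)) hθd (x₀ := x₀)
    (by rw [← pow_mul, hexp 1 (by omega) (by omega)]; exact hx₀)
  refine ⟨by omega, fun x hx => ?_, (w : V), fun e1 => hw0 (Subtype.ext e1), ?_, ?_⟩
  · have := hfix x (by rw [← pow_mul, hexp 1 (by omega) (by omega)]; exact hx)
    rwa [← pow_mul, hexp 2 (by omega) (by omega)] at this
  · have h1 := congrArg Subtype.val hw1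
    rw [Module.End.pow_restrict] at h1
    rw [← hexp 1 (by omega) (by omega), pow_mul]
    exact h1
  · have h1 := congrArg Subtype.val hw2
    rw [Module.End.pow_restrict] at h1
    rw [← hexp 2 (by omega) (by omega), pow_mul]
    exact h1

end CfsgLib.PGroups.Gross
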