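import Mathlib
import Cfsg.Agent.Lib.PGroups.Gross.Linear
import Cfsg.Agent.Lib.Core.FPFFour

/-!
# The two level configuration

`no_configuration`: an operator of order dividing `2 ^ n` without fixed vectors on `V` cannot
normalise a `q`-group `T` of operators together with a minimal group `P` of automorphisms of `T`
that is moved by its top power.
-/

set_option autoImplicit false
set_option linter.all false
set_option maxHeartbeats 800000

namespace CfsgLib.PGroups.Gross

open CfsgLib.PGroups.ShultGross CfsgLib.PGroups.Alperin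
open scoped commutatorElement TensorProduct

variable {K : Type*} [Field K] [IsAlgClosed K] {V : Type*} [AddCommGroup V] [Module K V]

/-- A faithful nonabelian group of class two has a weight of the centre moving a commutator. -/
theorem exists_weight {Q : Type*} [Group Q] [Finite Q] (hQK : (Nat.card Q : K) ≠ 0)
    (ρ : Q →* Module.End K V) (hρ : Function.Injective ρ)
    (hz : ∀ x y : Q, ⁅x, y⁆ ∈ Subgroup.center Q) (hna : ¬ ∀ a b : Q, a * b = b * a) :
    ∃ (θ : Subgroup.center Q →* Kˣ) (v : V), v ≠ 0 ∧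
      (∀ z : Subgroup.center Q, ρ (z : Q) v = (θ z : K) • v) ∧ ∃ x y, θ (cm hz x y) ≠ 1 := by
  by_contra hall
  push Not at hall
  refine hna fun a b => ?_
  have h1 : ρ (cm hz a b : Q) = ρ 1 := LinearMap.ext_on
    (span_weights_of_commute (fun h0 => hQK (by
        obtain ⟨d, hd⟩ := (Subgroup.center Q).card_subgroup_dvd_card
        rw [hd, Nat.cast_mul, h0, zero_mul])) (ρ.comp (Subgroup.center Q).subtype)
      fun z w => by simp only [MonoidHom.comp_apply, Subgroup.coe_subtype, ← map_mul, center_comm z w]) (by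
    rintro v ⟨θ, hθ⟩
    by_cases hv : v = 0
    · subst hv; simp
    rw [map_one, Module.End.one_apply]
    have := hθ (cm hz a b)
    rw [MonoidHom.comp_apply, Subgroup.coe_subtype] at this
    rw [this, hall θ v hv (fun z => hθ z) a b, Units.val_one, one_smul])
  exact commutatorElement_eq_one_iff_mul_comm.mp (hρ h1)

/-- The configuration does not exist. -/
theorem no_configuration [FiniteDimensional K V] {q ℓ n : ℕ} [hq : Fact q.Prime] [hl : Fact ℓ.Prime]
    (hq2 : q ≠ 2) (hl2 : ℓ ≠ 2) (hlq : ℓ ≠ q) (hqK : (q : K) ≠ 0) (h2K : (2 : K) ≠ 0)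
    {T : Type*} [Group T] [Finite T] (hT : IsPGroup q T) {φ : MulAut T}
    {ρ : T →* Module.End K V} {S : Module.End K V} (h : Op n φ ρ S) (hρ : Function.Injective ρ)
    (hfpf : ∀ x, φ x = x → x = 1)
    {P : Type*} [Group P] [Finite P] {ψ : MulAut P} (hP : Minimal' 2 ℓ n ψ)
    (π : P →* MulAut T) (hπ : Function.Injective π)
    (hψ : ∀ y t, φ (π y t) = π (ψ y) (φ t))
    (hmin : ∀ R : Subgroup T, (∀ x, x ∈ R ↔ φ x ∈ R) → (∀ y, ∀ x ∈ R, π y x ∈ R) → R ≠ ⊤ →
      ∀ y, ∀ x ∈ R, π y x = x) : False := by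
  classical
  set τ := φ ^ 2 ^ (n - 1) with hτ
  have hψpow : ∀ (i : ℕ) y t, (φ ^ i) (π y t) = π ((ψ ^ i) y) ((φ ^ i) t) := by
    intro i
    induction i with
    | zero => intro y t; simp
    | succ i ih =>
      intro y t
      rw [pow_succ', MulAut.mul_apply, ih, hψ, pow_succ' ψ, MulAut.mul_apply, MulAut.mul_apply]
  have hcards : (Nat.card T).Coprime (Nat.card P) := by
    obtain ⟨a, ha⟩ := IsPGroup.iff_card.mp hT
    obtain ⟨b, hb⟩ := IsPGroup.iff_card.mp hP.isPGroup
    rw [ha, hb]
    exact Nat.Coprime.pow a b ((Nat.coprime_primes hq.out hl.out).mpr (Ne.symm hlq))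
  have hTodd : Odd (Nat.card T) := by
    obtain ⟨a, ha⟩ := IsPGroup.iff_card.mp hT
    rw [ha]; exact (hq.out.odd_of_ne_two hq2).pow
  have hPodd : Odd (Nat.card P) := by
    obtain ⟨b, hb⟩ := IsPGroup.iff_card.mp hP.isPGroup
    rw [hb]; exact (hl.out.odd_of_ne_two hl2).pow
  -- `τ` does not act trivially on `T`
  have hτne : τ ≠ 1 := fun h1 => hP.ne (MulEquiv.ext fun y => hπ (MulEquiv.ext fun t => by
    have h2 := hψpow (2 ^ (n - 1)) y t
    rw [← hτ, h1, MulAut.one_apply, MulAut.one_apply] at h2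
    rw [MulAut.one_apply]; exact h2.symm))
  have hk1 : ∀ y x k, π y x = x * k → π y k = k → k = 1 := by
    intro y x k hx hk
    have hrep : ∀ i : ℕ, (π (y ^ i)) x = x * k ^ i := by
      intro i
      induction i with
      | zero => simp
      | succ i ih =>
        rw [pow_succ', map_mul, MulAut.mul_apply, ih, map_mul (π y), map_pow, hk, hx, mul_assoc,
          ← pow_succ']
    have h1 := hrep (Nat.card P)
    rw [pow_card_eq_one', map_one, MulAut.one_apply] at h1
    exact orderOf_eq_one_iff.mp (Nat.eq_one_of_dvd_coprimes hcards (orderOf_dvd_natCard k)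
      (orderOf_dvd_of_pow_eq_one (mul_left_cancel (h1.symm.trans (mul_one x).symm))))
  have hτk : ∀ x k, τ x = x * k → τ k = k → k = 1 := by
    intro x k hx hk
    have h1 : (τ * τ) x = x * (k * k) := by
      rw [MulAut.mul_apply, hx, map_mul, hk, hx, mul_assoc]
    have hn := hP.one_le
    rw [hτ, ← pow_add, ← two_mul, ← pow_succ', Nat.sub_add_cancel hn, h.pow, MulAut.one_apply] at h1
    have h2 : k ^ 2 = 1 := by rw [sq]; exact mul_left_cancel (h1.symm.trans (mul_one x).symm)
    exact orderOf_eq_one_iff.mp (Nat.eq_one_of_dvd_coprimes hTodd.coprime_two_right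
      (orderOf_dvd_natCard k) (orderOf_dvd_of_pow_eq_one h2))
  -- the subgroup of differences
  set D := Subgroup.closure (Set.range fun z : P × T => z.2⁻¹ * π z.1 z.2) with hD
  have hDtop : D = ⊤ := by
    by_contra hne
    have hDφ : ∀ x, x ∈ D ↔ φ x ∈ D := by
      have hle : D ≤ D.comap φ.toMonoidHom := by
        rw [hD, Subgroup.closure_le]
        rintro _ ⟨⟨y, t⟩, rfl⟩
        exact Subgroup.subset_closure ⟨⟨ψ y, φ t⟩, by simp [hψ]⟩
      have hmap : D.map φ.toMonoidHom = D := Subgroup.eq_of_le_of_card_ge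
        (Subgroup.map_le_iff_le_comap.mpr hle)
        (le_of_eq (Nat.card_congr (D.equivMapOfInjective _ φ.injective).toEquiv))
      refine fun x => ⟨fun hx => hle hx, fun hx => ?_⟩
      rw [← hmap] at hx
      obtain ⟨y, hy, hyx⟩ := hx
      exact φ.injective hyx ▸ hy
    have hDπ : ∀ y, ∀ x ∈ D, π y x ∈ D := by
      intro y x hx
      have hd : x⁻¹ * π y x ∈ D := Subgroup.subset_closure ⟨⟨y, x⟩, rfl⟩
      simpa using mul_mem hx hd
    refine hτne (MulEquiv.ext fun t => ?_)
    have htriv : ∀ y, π y = 1 := fun y => MulEquiv.ext fun x => by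
      have hk := hmin D hDφ hDπ hne y _ (Subgroup.subset_closure ⟨⟨y, x⟩, rfl⟩)
      have h1 := hk1 y x (x⁻¹ * π y x) (mul_inv_cancel_left x _).symm hk
      exact (inv_mul_eq_one.mp h1).symm
    exfalso
    exact hP.ne (MulEquiv.ext fun y => hπ ((htriv _).trans (htriv _).symm))
  -- the Frattini subgroup
  set Φ := frattini T with hΦ
  have hΦne : Φ ≠ ⊤ := by
    intro htop
    have hbot : (⊥ : Subgroup T) = ⊤ := frattini_nongenerating (by rw [← hΦ, htop, sup_top_eq])
    refine hτne (MulEquiv.ext fun x => ?_)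
    have : x ∈ (⊥ : Subgroup T) := hbot ▸ Subgroup.mem_top x
    rw [Subgroup.mem_bot.mp this, map_one, map_one]
  have hchar : ∀ (R : Subgroup T) [R.Characteristic], R ≠ ⊤ → ∀ y, ∀ x ∈ R, π y x = x :=
    fun R _ hne => hmin R (mem_iff_of_char φ R) (fun y x hx => (mem_iff_of_char (π y) R x).mp hx) hne
  have hΦfix := hchar Φ hΦne
  have hΦcen : Φ ≤ Subgroup.center T := by
    intro f hf
    have hle : D ≤ Subgroup.centralizer ({f} : Set T) := by
      rw [hD, Subgroup.closure_le]
      rintro _ ⟨⟨y, x⟩, rfl⟩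
      rw [SetLike.mem_coe, Subgroup.mem_centralizer_singleton_iff]
      have h1 : π y (x * f * x⁻¹) = x * f * x⁻¹ :=
        hΦfix y _ ((inferInstance : (frattini T).Normal).conj_mem f hf x)
      rw [map_mul, map_mul, map_inv, hΦfix y f hf] at h1
      calc x⁻¹ * π y x * f = x⁻¹ * (π y x * f * (π y x)⁻¹) * π y x := by group
        _ = f * (x⁻¹ * π y x) := by rw [h1]; group
    rw [hDtop] at hle
    exact Subgroup.mem_center_iff.mpr fun g =>
      Subgroup.mem_centralizer_singleton_iff.mp (hle (Subgroup.mem_top g))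
  letI : CommGroup (T ⧸ Φ) :=
    { (inferInstance : Group (T ⧸ Φ)) with
      mul_comm := fun x y => by
        induction x using QuotientGroup.induction_on with
        | H x =>
        induction y using QuotientGroup.induction_on with
        | H y =>
        show ((x * y : T) : T ⧸ Φ) = ((y * x : T) : T ⧸ Φ)
        rw [QuotientGroup.eq]
        have := commutator_le_frattini' hT
          (Subgroup.commutator_mem_commutator (Subgroup.mem_top y⁻¹) (Subgroup.mem_top x⁻¹))
        simpa [commutatorElement_def, mul_assoc] using this }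
  let act : P →* MulAut (T ⧸ Φ) := MonoidHom.mk'
    (fun y => onQuot (π y) Φ (mem_iff_of_char _ Φ)) fun y z => by
      refine MulEquiv.ext fun a => ?_
      induction a using QuotientGroup.induction_on with
      | H x =>
        show ((π (y * z) x : T) : T ⧸ Φ) = ((π y (π z x) : T) : T ⧸ Φ)
        rw [map_mul, MulAut.mul_apply]
  have hfixmod : ∀ x : T, (∀ y, x⁻¹ * π y x ∈ Φ) → x ∈ Φ := by
    intro x hx
    have : Fintype P := Fintype.ofFinite P
    let A : T ⧸ Φ →* T ⧸ Φ := ∏ y : P, (act y).toMonoidHom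
    have hA : ∀ a, A a = ∏ y : P, act y a := fun a => by simp [A]
    have hkill : ∀ t : T, A (t : T ⧸ Φ) = 1 := by
      intro t
      have hle : D ≤ A.ker.comap (QuotientGroup.mk' Φ) := by
        rw [hD, Subgroup.closure_le]
        rintro _ ⟨⟨y, u⟩, rfl⟩
        rw [SetLike.mem_coe, Subgroup.mem_comap, MonoidHom.mem_ker, map_mul, map_inv, map_mul, map_inv,
          inv_mul_eq_one, hA, hA]
        symm
        refine Fintype.prod_equiv (Equiv.mulRight y) _ _ fun w => ?_
        show act w (act y (u : T ⧸ Φ)) = act (w * y) (u : T ⧸ Φ)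
        rw [map_mul, MulAut.mul_apply]
      rw [hDtop] at hle
      exact hle (Subgroup.mem_top t)
    refine (QuotientGroup.eq_one_iff x).mp ?_
    have h1 := hkill x
    rw [hA, Finset.prod_congr rfl (g := fun _ => (x : T ⧸ Φ)) fun y _ =>
      show act y (x : T ⧸ Φ) = (x : T ⧸ Φ) from (QuotientGroup.eq.mpr (hx y)).symm, Finset.prod_const, Finset.card_univ,
      ← Nat.card_eq_fintype_card] at h1
    exact orderOf_eq_one_iff.mp (Nat.eq_one_of_dvd_coprimes
      (hcards.coprime_dvd_left Φ.card_quotient_dvd_card) (orderOf_dvd_natCard _)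
      (orderOf_dvd_of_pow_eq_one h1))
  have hfix : ∀ x : T, (∀ y, π y x = x) → x ∈ Φ := fun x hx =>
    hfixmod x fun y => by rw [hx y, inv_mul_cancel]; exact one_mem _
  -- `T` is nonabelian, with centre `Φ` fixed by `τ`
  have hTK : (Nat.card T : K) ≠ 0 := by
    obtain ⟨a, ha⟩ := IsPGroup.iff_card.mp hT
    rw [ha, Nat.cast_pow]; exact pow_ne_zero _ hqK
  have hna : ¬ ∀ a b : T, a * b = b * a := fun hab => hτne (MulEquiv.ext fun x =>
    hρ (h.top_eq hTK (fun a b => by rw [← map_mul, hab, map_mul]) x))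
  have hZne : Subgroup.center T ≠ ⊤ := fun htop => hna fun a b =>
    Subgroup.mem_center_iff.mp (htop ▸ Subgroup.mem_top b) a
  have hZ : Subgroup.center T = Φ :=
    le_antisymm (fun z hzc => hfix z fun y => hchar _ hZne y z hzc) hΦcen
  have hz : ∀ x y : T, ⁅x, y⁆ ∈ Subgroup.center T := fun x y => hΦcen
    (commutator_le_frattini' hT
      (Subgroup.commutator_mem_commutator (Subgroup.mem_top x) (Subgroup.mem_top y)))
  have hτZ : ∀ z : T, z ∈ Subgroup.center T → τ z = z := fun z hzc => by
    have h1 := (h.restrict (Subgroup.center T) (mem_iff_of_char φ _)).top_eq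
      (fun h0 => hTK (by
        obtain ⟨d, hd⟩ := (Subgroup.center T).card_subgroup_dvd_card
        rw [hd, Nat.cast_mul, h0, zero_mul]))
      (fun a b => by simp only [MonoidHom.comp_apply, Subgroup.coe_subtype, ← map_mul, center_comm a b])
      ⟨z, hzc⟩
    rw [MonoidHom.comp_apply, MonoidHom.comp_apply, Subgroup.coe_subtype, restrict_pow] at h1
    exact hρ h1
  obtain ⟨θ, v₁, hv₁0, hv₁, x₁, y₁, hxy₁⟩ := exists_weight hTK ρ hρ hz hna
  set R := rad hz θ with hR
  have hRπ : ∀ y x, x ∈ R → π y x ∈ R := fun y x hx => (rad_iff hz (φ := π y) (fun z w hzw => by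
    rw [hchar _ hZne y z z.2] at hzw
    rw [show w = z from Subtype.ext hzw]) x).mp hx
  -- the intersection of the translates of the radical is the centre
  let R' : Subgroup T :=
    { carrier := {x | ∀ i : ℕ, (φ ^ i) x ∈ R}
      one_mem' := fun i => by rw [map_one]; exact one_mem _
      mul_mem' := fun {a b} ha hb i => by rw [map_mul]; exact mul_mem (ha i) (hb i)
      inv_mem' := fun {a} ha i => by rw [map_inv]; exact inv_mem (ha i) }
  have hR'Φ : R' ≤ Φ := by
    refine fun x hx => hfix x fun y => hmin R' (fun x => ⟨fun hx i => ?_, fun hx i => ?_⟩)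
      (fun y x hx i => ?_) (fun htop => hxy₁ ?_) y x hx
    · rw [← MulAut.mul_apply, ← pow_succ]; exact hx (i + 1)
    · have h1 := hx (i + (2 ^ n - 1))
      rwa [← MulAut.mul_apply, ← pow_succ, add_assoc, Nat.sub_add_cancel Nat.one_le_two_pow,
        pow_add, h.pow, mul_one] at h1
    · rw [hψpow]; exact hRπ _ _ (hx i)
    · have h1 := (htop ▸ Subgroup.mem_top x₁ : x₁ ∈ R') 0
      rw [pow_zero, MulAut.one_apply] at h1
      exact h1 y₁
  obtain ⟨x₀, hx₀⟩ : ∃ x₀, x₀⁻¹ * τ x₀ ∉ R := by
    by_contra hall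
    push Not at hall
    refine hτne (MulEquiv.ext fun x => ?_)
    have hk : x⁻¹ * τ x ∈ R' := fun i => by
      have h1 := hall ((φ ^ i) x)
      rw [map_mul, map_inv]
      rwa [hτ, ← MulAut.mul_apply, ← pow_add, add_comm, pow_add, MulAut.mul_apply] at h1
    have h2 := hτk x _ (mul_inv_cancel_left x (τ x)).symm (hτZ _ (hΦcen (hR'Φ hk)))
    rw [inv_mul_eq_one] at h2
    exact h2.symm
  obtain ⟨hn2, hdich, -⟩ := h.neg_vector hTodd hTK h2K hz hv₁0 hv₁ hx₀
  set σ' := φ ^ 2 ^ (n - 2) with hσ'
  have hcent : ∀ x, x⁻¹ * τ x ∈ Φ → x⁻¹ * σ' x ∈ Φ := by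
    intro x hx
    refine hR'Φ fun i => ?_
    rw [map_mul, map_inv, hσ', ← MulAut.mul_apply, ← pow_add, add_comm, pow_add, MulAut.mul_apply]
    refine hdich _ ?_
    have h1 : ((φ ^ i) x)⁻¹ * τ ((φ ^ i) x) = (φ ^ i) (x⁻¹ * τ x) := by
      rw [map_mul, map_inv, hτ, ← MulAut.mul_apply, ← pow_add, add_comm, pow_add, MulAut.mul_apply]
    rw [← hτ, h1]
    refine center_le_rad hz θ (hΦcen ?_)
    exact (mem_iff_of_char (φ ^ i) Φ _).mp hx
  -- the module `T / Φ`
  have hM : ∀ a : T ⧸ Φ, a ^ q = 1 := by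
    intro a
    induction a using QuotientGroup.induction_on with
    | H x =>
      rw [← QuotientGroup.mk_pow]
      exact (QuotientGroup.eq_one_iff _).mpr (pow_mem_frattini hT x)
  have instM : Module (ZMod q) (Additive (T ⧸ Φ)) :=
    AddCommGroup.zmodModule fun v => congrArg Additive.ofMul (hM (Additive.toMul v))
  let L : MulAut (T ⧸ Φ) →* Module.End (ZMod q) (Additive (T ⧸ Φ)) :=
    { toFun := fun a => ((MonoidHom.toAdditive a.toMonoidHom).toZModLinearMap q :
        Additive (T ⧸ Φ) →ₗ[ZMod q] Additive (T ⧸ Φ))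
      map_one' := by
        refine LinearMap.ext fun v => ?_
        rw [AddMonoidHom.coe_toZModLinearMap]
        rfl
      map_mul' := fun a b => by
        refine LinearMap.ext fun v => ?_
        rw [Module.End.mul_apply, AddMonoidHom.coe_toZModLinearMap, AddMonoidHom.coe_toZModLinearMap,
          AddMonoidHom.coe_toZModLinearMap]
        rfl }
  have hLap : ∀ (a : MulAut (T ⧸ Φ)) (m : T ⧸ Φ),
      L a (Additive.ofMul m) = Additive.ofMul (a m) := fun a m => by
    simp only [L, MonoidHom.coe_mk, OneHom.coe_mk, AddMonoidHom.coe_toZModLinearMap]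
    rfl
  have hLinj : Function.Injective L := fun a b hab => MulEquiv.ext fun v => by
    have h1 := LinearMap.congr_fun hab (Additive.ofMul v)
    rw [hLap, hLap] at h1
    exact congrArg Additive.toMul h1
  haveI : Module.Finite (ZMod q) (Additive (T ⧸ Φ)) := Module.Finite.of_finite
  let F := ZMod q
  let K' := AlgebraicClosure F
  let B : Module.End F (Additive (T ⧸ Φ)) →* Module.End K' (K' ⊗[F] Additive (T ⧸ Φ)) :=
    { toFun := fun a => a.baseChange K'
      map_one' := LinearMap.baseChange_id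
      map_mul' := fun a b => LinearMap.baseChange_comp _ _ }
  have hinj : Function.Injective fun v : Additive (T ⧸ Φ) => (1 : K') ⊗ₜ[F] v := by
    have h1 := Module.Flat.rTensor_preserves_injective_linearMap (M := Additive (T ⧸ Φ))
      (Algebra.linearMap F K') (algebraMap F K').injective
    intro v w hvw
    have h2 : ((Algebra.linearMap F K').rTensor (Additive (T ⧸ Φ))) ((1 : F) ⊗ₜ v) =
        ((Algebra.linearMap F K').rTensor (Additive (T ⧸ Φ))) ((1 : F) ⊗ₜ w) := by
      simpa using hvw
    simpa using congrArg (fun z => TensorProduct.lid F (Additive (T ⧸ Φ)) z) (h1 h2)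
  have hBinj : Function.Injective B := fun a b hab =>
    LinearMap.ext fun v => hinj (LinearMap.congr_fun hab ((1 : K') ⊗ₜ[F] v))
  have hactinj : Function.Injective act := by
    rw [injective_iff_map_eq_one]
    intro y hy
    refine hπ ?_
    rw [map_one]
    refine MulEquiv.ext fun x => ?_
    have h1 : x⁻¹ * π y x ∈ Φ :=
      QuotientGroup.eq.mp (MulEquiv.congr_fun hy (x : T ⧸ Φ)).symm
    have h2 := hk1 y x _ (mul_inv_cancel_left x _).symm (hΦfix y _ h1)
    exact (inv_mul_eq_one.mp h2).symm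
  set s : MulAut (T ⧸ Φ) := onQuot φ Φ (mem_iff_of_char φ Φ) with hs
  have hspow : ∀ (i : ℕ) (x : T), (s ^ i) (x : T ⧸ Φ) = (((φ ^ i) x : T) : T ⧸ Φ) :=
    fun i x => onQuot_pow φ Φ _ i x
  have hsn : s ^ 2 ^ n = 1 := MulEquiv.ext fun v => by
    induction v using QuotientGroup.induction_on with
    | H x => rw [hspow, h.pow]; rfl
  set ρP : P →* Module.End K' (K' ⊗[F] Additive (T ⧸ Φ)) := B.comp (L.comp act) with hρP
  have hρPinj : Function.Injective ρP := hBinj.comp (hLinj.comp hactinj)
  have hop : Op n ψ ρP (B (L s)) :=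
    { pow := hP.pow
      spow := by rw [← map_pow, ← map_pow, hsn, map_one, map_one]
      compat := fun y => by
        rw [hρP, MonoidHom.comp_apply, MonoidHom.comp_apply, MonoidHom.comp_apply,
          MonoidHom.comp_apply, ← map_mul, ← map_mul, ← map_mul, ← map_mul]
        congr 2
        refine MulEquiv.ext fun v => ?_
        induction v using QuotientGroup.induction_on with
        | H x =>
          show ((φ (π y x) : T) : T ⧸ Φ) = ((π (ψ y) (φ x) : T) : T ⧸ Φ)
          rw [hψ]
      fix := by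
        have h1 : Function.Injective (L s - 1 : Module.End F (Additive (T ⧸ Φ))) := by
          intro a b hab
          have h2 : L s (a - b) = a - b := by
            rw [map_sub]
            have h3 : L s a - a = L s b - b := hab
            rw [sub_eq_sub_iff_sub_eq_sub] at h3
            exact h3
          obtain ⟨m, hm⟩ : ∃ m, a - b = Additive.ofMul m := ⟨_, rfl⟩
          rw [hm, hLap] at h2
          have h4 := CfsgLib.Core.FPFFour.quotient_eq_one_of_fixed hfpf Φ
            (map_of_iff φ Φ (mem_iff_of_char φ Φ)) m (congrArg Additive.toMul h2)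
          rw [h4] at hm
          exact sub_eq_zero.mp hm
        have h2 : Function.Injective ((L s - 1 : Module.End F (Additive (T ⧸ Φ))).baseChange K') :=
          Module.Flat.lTensor_preserves_injective_linearMap _ h1
        intro v hv
        refine h2 ?_
        rw [LinearMap.baseChange_sub, LinearMap.sub_apply, map_zero, Module.End.one_eq_id,
          LinearMap.baseChange_id, LinearMap.id_apply, sub_eq_zero]
        exact hv }
  have hcast : ∀ l : ℕ, l.Prime → l ≠ q → (l : K') ≠ 0 := fun l hl' hlq h0 => by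
    rw [← map_natCast (algebraMap F K'), map_eq_zero] at h0
    exact hlq ((Nat.prime_dvd_prime_iff_eq hq.out hl').mp
      ((ZMod.natCast_eq_zero_iff _ _).mp h0)).symm
  have hPK : (Nat.card P : K') ≠ 0 := by
    obtain ⟨b, hb⟩ := IsPGroup.iff_card.mp hP.isPGroup
    rw [hb, Nat.cast_pow]; exact pow_ne_zero _ (hcast ℓ hl.out hlq)
  have h2K' : (2 : K') ≠ 0 := by exact_mod_cast hcast 2 Nat.prime_two (Ne.symm hq2)
  have hnaP : ¬ ∀ a b : P, a * b = b * a := fun hab => hP.ne (MulEquiv.ext fun x =>
    hρPinj (hop.top_eq hPK (fun a b => by rw [← map_mul, hab, map_mul]) x))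
  have hzP : ∀ x y : P, ⁅x, y⁆ ∈ Subgroup.center P := fun x y => hP.frattini_le_center (Ne.symm hl2)
    (commutator_le_frattini' hP.isPGroup
      (Subgroup.commutator_mem_commutator (Subgroup.mem_top x) (Subgroup.mem_top y)))
  obtain ⟨θP, v₂, hv₂0, hv₂, x₂, y₂, hxy₂⟩ := exists_weight hPK ρP hρPinj hzP hnaP
  obtain ⟨y₀, hy₀⟩ : ∃ y₀, y₀⁻¹ * (ψ ^ 2 ^ (n - 1)) y₀ ∉ rad hzP θP := by
    by_contra hall
    push Not at hall
    have hle : Subgroup.closure (Set.range fun x : P => x⁻¹ * (ψ ^ 2 ^ (n - 1)) x) ≤ rad hzP θP := by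
      rw [Subgroup.closure_le]
      rintro _ ⟨x, rfl⟩
      exact hall x
    rw [hP.closure_diff_eq_top (Ne.symm hl2)] at hle
    exact hxy₂ (hle (Subgroup.mem_top x₂) y₂)
  obtain ⟨-, -, v, hv0, hv1, hv2⟩ := hop.neg_vector hPodd hPK h2K' hzP hv₂0 hv₂ hy₀
  -- the contradiction
  have hid : (L (s ^ 2 ^ (n - 2)) - 1) * (L (s ^ 2 ^ (n - 1)) + 1) = 0 := by
    refine LinearMap.ext fun a => ?_
    obtain ⟨m, rfl⟩ := Additive.ofMul.surjective a
    induction m using QuotientGroup.induction_on with
    | H x =>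
      rw [Module.End.mul_apply, LinearMap.add_apply, Module.End.one_apply, hLap, ← ofMul_mul,
        LinearMap.sub_apply, Module.End.one_apply, hLap, hspow, ← QuotientGroup.mk_mul, hspow,
        LinearMap.zero_apply, sub_eq_zero]
      congr 1
      symm
      refine QuotientGroup.eq.mpr (hcent _ (QuotientGroup.eq.mp ?_))
      have hττ : τ (τ x) = x := by
        rw [hτ, ← MulAut.mul_apply, ← pow_add, ← two_mul, ← pow_succ', Nat.sub_add_cancel hP.one_le,
          h.pow, MulAut.one_apply]
      rw [← hτ, map_mul, hττ, QuotientGroup.mk_mul, QuotientGroup.mk_mul, mul_comm]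
  have h3 := congrArg (fun g => B g v) hid
  simp only [map_mul, Module.End.mul_apply] at h3
  have hB : ∀ g : Module.End F (Additive (T ⧸ Φ)), B g = g.baseChange K' := fun _ => rfl
  simp only [hB, LinearMap.baseChange_add, LinearMap.baseChange_sub, LinearMap.baseChange_zero,
    Module.End.one_eq_id, LinearMap.baseChange_id, LinearMap.add_apply, LinearMap.sub_apply,
    LinearMap.id_apply, LinearMap.zero_apply] at h3
  have hpw : ∀ i, (L (s ^ i)).baseChange K' = (B (L s)) ^ i := fun i => by
    rw [← map_pow, ← map_pow]; rfl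
  rw [hpw, hpw, hv1, map_add, hv2] at h3
  have h4 : ((2 : K') * 2) • v = 0 := by
    rw [← neg_eq_zero, ← h3, mul_smul, two_smul, two_smul]
    abel
  exact hv0 ((smul_eq_zero.mp h4).resolve_left (mul_ne_zero h2K' h2K'))

end CfsgLib.PGroups.Gross
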