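import Mathlib
import Cfsg.Agent.Lib.PGroups.ShultGross.Height

/-!
# The Fitting subgroup and the modules on the Frattini quotients of the cores

* `le_fitting_of_centralizes`
* `modAct`, `exists_nontrivial_module`: a nontrivial `q`-element of `O_q(G/F(G))` acts nontrivially
  on the Frattini quotient of `O_r(G)` for some `r ≠ q`
* `exists_moved_core`: a nontrivial operator of order two moves some core
-/

set_option autoImplicit false
set_option linter.all false

namespace CfsgLib.PGroups.Gross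

open CfsgLib.PGroups.ShultGross CfsgLib.PGroups.Alperin
open scoped commutatorElement

variable {G : Type*} [Group G] [Finite G]

/-- The product of the cores for the primes other than `q`. -/
def otherCores (q : ℕ) (G : Type*) [Group G] : Subgroup G :=
  ⨆ r : {r : Nat.Primes // (r : ℕ) ≠ q}, Cfsg.pCore ((r : Nat.Primes) : ℕ) G

/-- A normal subgroup of `q`-power index over `F(G)` meets the centralizer of the other cores in
`F(G)`. -/
theorem le_fitting_of_centralizes {q : ℕ} [hq : Fact q.Prime] (M : Subgroup G) [M.Normal]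
    (hM : ∀ g ∈ M, ∃ j : ℕ, g ^ q ^ j ∈ Cfsg.fittingSubgroup G) :
    M ⊓ Subgroup.centralizer (otherCores q G : Set G) ≤ Cfsg.fittingSubgroup G := by
  classical
  haveI hNn : (otherCores q G).Normal :=
    Subgroup.iSup_normal _
  have hF : Cfsg.fittingSubgroup G ≤ Cfsg.pCore q G ⊔ otherCores q G := by
    rw [CfsgLib.Core.fittingSubgroup_eq_iSup_pCore]
    refine iSup_le fun r => ?_
    by_cases hr : (r : ℕ) = q
    · rw [hr]; exact le_sup_left
    · exact le_sup_of_le_right
        (le_iSup (fun s : {r : Nat.Primes // (r : ℕ) ≠ q} => Cfsg.pCore ((s : Nat.Primes) : ℕ) G) ⟨r, hr⟩)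
  set D := M ⊓ Subgroup.centralizer (otherCores q G : Set G) with hD
  haveI : D.Normal := Subgroup.normal_inf_normal _ _
  refine CfsgLib.Core.le_fittingSubgroup ?_
  have hDq : IsPGroup q (D ⧸ Subgroup.center D) := by
    intro a
    induction a using QuotientGroup.induction_on with
    | H d =>
    obtain ⟨hdM, hdC⟩ := Subgroup.mem_inf.mp d.2
    obtain ⟨j, hj⟩ := hM (d : G) hdM
    obtain ⟨u, hu, w, hw, huw⟩ := Subgroup.mem_sup_of_normal_left.mp (hF hj)
    obtain ⟨i, hi⟩ := CfsgLib.Core.isPGroup_pCore q G ⟨u, hu⟩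
    have hui : u ^ q ^ i = 1 := congrArg Subtype.val hi
    have hcomm : Commute w ((d : G) ^ q ^ j) :=
      Commute.pow_right (Subgroup.mem_centralizer_iff.mp hdC w hw : Commute w (d : G)) _
    have huw' : Commute u w := by
      have h1 : u = (d : G) ^ q ^ j * w⁻¹ := eq_mul_inv_of_mul_eq huw
      rw [h1]
      exact hcomm.symm.mul_left (Commute.inv_left (Commute.refl w))
    have hpow : (d : G) ^ q ^ (j + i) ∈ otherCores q G := by
      rw [pow_add, pow_mul, ← huw, huw'.mul_pow, hui, one_mul]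
      exact pow_mem hw _
    refine ⟨j + i, ?_⟩
    rw [← QuotientGroup.mk_pow, QuotientGroup.eq_one_iff, Subgroup.mem_center_iff]
    intro e
    refine Subtype.ext ?_
    show (e : G) * ((d : G) ^ q ^ (j + i)) = (d : G) ^ q ^ (j + i) * e
    exact (Subgroup.mem_centralizer_iff.mp (Subgroup.mem_inf.mp e.2).2 _ hpow).symm
  haveI := hDq.isNilpotent
  exact _root_.isNilpotent_of_ker_le_center (QuotientGroup.mk' (Subgroup.center D))
    (le_of_eq (QuotientGroup.ker_mk' _))

/-- The action on the Frattini quotient of a core. -/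
noncomputable def modAct (G : Type*) [Group G] (r : ℕ) :
    G →* MulAut (Cfsg.pCore r G ⧸ frattini (Cfsg.pCore r G)) :=
  MonoidHom.mk' (fun g => onQuot (MulAut.conjNormal g) _ (mem_iff_of_char _ _)) fun g h => by
    refine MulEquiv.ext fun a => ?_
    induction a using QuotientGroup.induction_on with
    | H x =>
      show ((MulAut.conjNormal (g * h) x : Cfsg.pCore r G) : Cfsg.pCore r G ⧸ frattini _) =
        ((MulAut.conjNormal g (MulAut.conjNormal h x) : Cfsg.pCore r G) : _ ⧸ _)
      rw [map_mul, MulAut.mul_apply]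

/-- The Fitting subgroup acts trivially. -/
theorem fitting_le_ker {r : ℕ} [hr : Fact r.Prime] : Cfsg.fittingSubgroup G ≤ (modAct G r).ker := by
  rw [CfsgLib.Core.fittingSubgroup_eq_iSup_pCore]
  refine iSup_le fun l g hg => ?_
  rw [MonoidHom.mem_ker]
  refine MulEquiv.ext fun a => ?_
  induction a using QuotientGroup.induction_on with
  | H x =>
  show ((MulAut.conjNormal g x : Cfsg.pCore r G) : Cfsg.pCore r G ⧸ frattini _) = (x : _ ⧸ _)
  by_cases hl : (l : ℕ) = r
  · rw [hl] at hg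
    rw [show (MulAut.conjNormal g x : Cfsg.pCore r G) = ⟨g, hg⟩ * x * (⟨g, hg⟩ : Cfsg.pCore r G)⁻¹
      from Subtype.ext (by simp), QuotientGroup.eq]
    have := commutator_le_frattini' (CfsgLib.Core.isPGroup_pCore r G)
      (Subgroup.commutator_mem_commutator (Subgroup.mem_top (⟨g, hg⟩ : Cfsg.pCore r G))
        (Subgroup.mem_top x⁻¹))
    simpa [commutatorElement_def, mul_assoc] using this
  · congr 1
    refine Subtype.ext ?_
    rw [MulAut.conjNormal_apply]
    have h1 : Commute g (x : G) := CfsgLib.Core.commute_pCore_pCore l.2 hr.out hl g hg (x : G) x.2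
    rw [h1.eq, mul_inv_cancel_right]

/-- A nontrivial element of `O_q(G/F(G))` acts nontrivially on some other module. -/
theorem exists_nontrivial_module {q : ℕ} [hq : Fact q.Prime]
    {t : G ⧸ Cfsg.fittingSubgroup G} (ht : t ∈ Cfsg.pCore q (G ⧸ Cfsg.fittingSubgroup G))
    (ht1 : t ≠ 1) :
    ∃ r : ℕ, r.Prime ∧ r ≠ q ∧ r ∣ Nat.card G ∧
      ∃ g : G, (g : G ⧸ Cfsg.fittingSubgroup G) = t ∧ modAct G r g ≠ 1 := by
  classical
  obtain ⟨g, rfl⟩ := QuotientGroup.mk_surjective t
  set F := Cfsg.fittingSubgroup G with hF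
  obtain ⟨a, m, hm, hord⟩ := Nat.exists_eq_pow_mul_and_not_dvd (orderOf_pos g).ne' q hq.out.ne_one
  set b := g ^ m with hb
  have hbq : b ^ q ^ a = 1 := by rw [hb, ← pow_mul, mul_comm, ← hord, pow_orderOf_eq_one]
  let M := (Cfsg.pCore q (G ⧸ F)).comap (QuotientGroup.mk' F)
  haveI : M.Normal := Subgroup.Normal.comap inferInstance _
  have hM : ∀ x ∈ M, ∃ j : ℕ, x ^ q ^ j ∈ F := fun x hx => by
    obtain ⟨j, hj⟩ := CfsgLib.Core.isPGroup_pCore q _ ⟨(x : G ⧸ F), hx⟩
    refine ⟨j, (QuotientGroup.eq_one_iff _).mp ?_⟩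
    rw [QuotientGroup.mk_pow]
    exact congrArg Subtype.val hj
  have hbF : b ∉ F := by
    intro hmem
    obtain ⟨j, hj⟩ := hM g ht
    have h1 : ((g : G ⧸ F)) ^ m = 1 := by
      rw [← QuotientGroup.mk_pow]; exact (QuotientGroup.eq_one_iff _).mpr hmem
    have h2 : ((g : G ⧸ F)) ^ q ^ j = 1 := by
      rw [← QuotientGroup.mk_pow]; exact (QuotientGroup.eq_one_iff _).mpr hj
    have h3 := pow_gcd_eq_one.mpr (⟨h2, h1⟩ : (g : G ⧸ F) ^ q ^ j = 1 ∧ (g : G ⧸ F) ^ m = 1)
    rw [((hq.out.coprime_iff_not_dvd.mpr hm).pow_left j).gcd_eq_one, pow_one] at h3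
    exact ht1 h3
  have hbC : b ∉ Subgroup.centralizer (otherCores q G : Set G) := fun hc =>
    hbF (le_fitting_of_centralizes (q := q) M hM (Subgroup.mem_inf.mpr ⟨M.pow_mem ht m, hc⟩))
  obtain ⟨r, hr⟩ : ∃ r : {r : Nat.Primes // (r : ℕ) ≠ q},
      ¬ Cfsg.pCore ((r : Nat.Primes) : ℕ) G ≤ Subgroup.centralizer ({b} : Set G) := by
    by_contra hall
    push Not at hall
    refine hbC (Subgroup.mem_centralizer_iff.mpr fun x hx => ?_)
    exact Subgroup.mem_centralizer_singleton_iff.mp ((iSup_le hall :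
      otherCores q G ≤ Subgroup.centralizer ({b} : Set G)) hx)
  obtain ⟨⟨r, hrp⟩, hrq⟩ := r
  haveI : Fact r.Prime := ⟨hrp⟩
  refine ⟨r, hrp, hrq, ?_, g, rfl, fun h1 => hr ?_⟩
  · by_contra hnd
    refine hr ?_
    rw [CfsgLib.Core.pCore_eq_bot_of_not_dvd hrp hnd]
    exact bot_le
  · set R := Cfsg.pCore r G
    have hRr : IsPGroup r R := CfsgLib.Core.isPGroup_pCore r _
    obtain ⟨f, hf⟩ := IsPGroup.iff_card.mp (hRr.to_subgroup (frattini R))
    have hcop : (Nat.card (Subgroup.zpowers b)).Coprime (Nat.card (frattini R)) := by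
      rw [Nat.card_zpowers, hf]
      exact ((((Nat.coprime_primes hq.out hrp).mpr (Ne.symm hrq)).pow_left a).pow_right f).coprime_dvd_left
        (orderOf_dvd_of_pow_eq_one hbq)
    have hbR := CfsgLib.Core.centralizes_of_centralizes_frattini_quotient
      (A := Subgroup.zpowers b) (K := R) Subgroup.le_normalizer_of_normal hcop fun w hw x hx => by
        have hwD : w ∈ (modAct G r).ker :=
          Subgroup.zpowers_le.mpr (Subgroup.pow_mem _ h1 m) hw
        have h2 : ((MulAut.conjNormal w ⟨x, hx⟩ : R) : R ⧸ frattini R) =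
            ((⟨x, hx⟩ : R) : R ⧸ frattini R) :=
          MulEquiv.congr_fun (MonoidHom.mem_ker.mp hwD) ((⟨x, hx⟩ : R) : R ⧸ frattini R)
        rw [QuotientGroup.eq_iff_div_mem] at h2
        exact ⟨_, h2, by simp [div_eq_mul_inv]⟩
    intro x hx
    exact Subgroup.mem_centralizer_singleton_iff.mpr
      (Subgroup.mem_centralizer_iff.mp (hbR (Subgroup.mem_zpowers b)) x hx)

/-- An operator of order two moves a core. -/
theorem exists_moved_core (hsol : Group.IsSolvable G) (hodd : (Nat.card G).Coprime 2) {τ : MulAut G}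
    (hτ : τ ^ 2 = 1) {x : G} (hx : τ x ≠ x) :
    ∃ l : Nat.Primes, ∃ y ∈ Cfsg.pCore (l : ℕ) G, τ y ≠ y := by
  haveI := hsol
  by_contra hall
  push Not at hall
  have hfit : ∀ x ∈ Cfsg.fittingSubgroup G, τ x = x := by
    intro x hx
    rw [CfsgLib.Core.fittingSubgroup_eq_iSup_pCore] at hx
    exact (iSup_le hall : (⨆ q : Nat.Primes, Cfsg.pCore (q : ℕ) G) ≤
      τ.toMonoidHom.eqLocus (MonoidHom.id G)) hx
  set k := x⁻¹ * τ x with hk
  have hkC : k ∈ Subgroup.centralizer (Cfsg.fittingSubgroup G : Set G) := by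
    rw [Subgroup.mem_centralizer_iff]
    intro f hf
    have h1 : τ (x * f * x⁻¹) = x * f * x⁻¹ :=
      hfit _ ((inferInstance : (Cfsg.fittingSubgroup G).Normal).conj_mem f hf x)
    rw [map_mul, map_mul, map_inv, hfit f hf] at h1
    symm
    calc x⁻¹ * τ x * f = x⁻¹ * (τ x * f * (τ x)⁻¹) * τ x := by group
      _ = f * (x⁻¹ * τ x) := by rw [h1]; group
  have hkfix : τ k = k := hfit k (CfsgLib.Components.centralizer_fitting_le_of_isSolvable hkC)
  have hτx : τ x = x * k := (mul_inv_cancel_left x _).symm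
  have h1 : (τ ^ 2) x = x * (k * k) := by
    rw [sq, MulAut.mul_apply, hτx, map_mul, hkfix, hτx, mul_assoc]
  rw [hτ, MulAut.one_apply, ← sq] at h1
  have hk1 : k = 1 := orderOf_eq_one_iff.mp (Nat.eq_one_of_dvd_coprimes hodd (orderOf_dvd_natCard k)
    (orderOf_dvd_of_pow_eq_one (mul_left_cancel (h1.symm.trans (mul_one x).symm))))
  exact hx (inv_mul_eq_one.mp hk1).symm

end CfsgLib.PGroups.Gross
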