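import Mathlib
import Cfsg.Agent.Lib.PGroups.Gross.Core

/-!
# The configuration on a finite module

`not_moved`: a fixed point free operator of order dividing `2 ^ n` on an elementary abelian group
`V` does not normalise a `q`-group acting nontrivially on `V` that is moved by a minimal group
moved by the top power.
-/

set_option autoImplicit false
set_option linter.all false

namespace CfsgLib.PGroups.Gross

open CfsgLib.PGroups.ShultGross CfsgLib.PGroups.Alperin
open scoped TensorProduct

/-- Minimality passes to proper quotients. -/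
theorem minimal_quotient {Q : Type*} [Group Q] [Finite Q] {p q n : ℕ} [hp : Fact p.Prime]
    [hq : Fact q.Prime] {ψ : MulAut Q} (h : Minimal' p q n ψ) (hpq : p ≠ q) (N : Subgroup Q)
    [N.Normal] (hN : ∀ x, x ∈ N ↔ ψ x ∈ N) (hne : N ≠ ⊤) : Minimal' p q n (onQuot ψ N hN) :=
  { isPGroup := h.isPGroup.to_quotient N
    pow := MulEquiv.ext fun a => by
      induction a using QuotientGroup.induction_on with
      | H x => rw [onQuot_pow, h.pow]; rfl
    one_le := h.one_le
    ne := fun h1 => h.ne (MulEquiv.ext fun x => by
      have h2 := MulEquiv.congr_fun h1 (x : Q ⧸ N)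
      rw [onQuot_pow, MulAut.one_apply, eq_comm, QuotientGroup.eq] at h2
      have h3 := h.eq_one_of_fixed_diff hpq (mul_inv_cancel_left x _).symm (h.min N hN hne _ h2)
      rw [MulAut.one_apply]
      exact (inv_mul_eq_one.mp h3).symm)
    min := fun R hR hRne a ha => by
      induction a using QuotientGroup.induction_on with
      | H x =>
        rw [onQuot_pow, h.min (R.comap (QuotientGroup.mk' N)) (fun y => by
          rw [Subgroup.mem_comap, Subgroup.mem_comap]
          exact hR (y : Q ⧸ N)) (fun htop => hRne (by
          rw [← Subgroup.map_comap_eq_self_of_surjective (QuotientGroup.mk'_surjective N) R, htop,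
            Subgroup.map_top_of_surjective _ (QuotientGroup.mk'_surjective N)])) x ha] }

/-- No configuration on a finite module. -/
theorem not_moved {q r ℓ n : ℕ} [hq : Fact q.Prime] [hr : Fact r.Prime] [hl : Fact ℓ.Prime]
    (hq2 : q ≠ 2) (hl2 : ℓ ≠ 2) (hlq : ℓ ≠ q) (hrq : r ≠ q) (hr2 : r ≠ 2)
    {T : Type*} [Group T] [Finite T] (hT : IsPGroup q T) {φ : MulAut T} (hφn : φ ^ 2 ^ n = 1)
    (hfpf : ∀ x, φ x = x → x = 1)
    {P : Type*} [Group P] [Finite P] {ψ : MulAut P} (hP : Minimal' 2 ℓ n ψ) (π : P →* MulAut T)
    (hψ : ∀ y t, φ (π y t) = π (ψ y) (φ t))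
    (hmin : ∀ R : Subgroup T, (∀ x, x ∈ R ↔ φ x ∈ R) → (∀ y, ∀ x ∈ R, π y x ∈ R) → R ≠ ⊤ →
      ∀ y, ∀ x ∈ R, π y x = x)
    (hmoved : ∃ y x, π y x ≠ x)
    {V : Type*} [CommGroup V] [Finite V] (hV : ∀ v : V, v ^ r = 1) (f : T →* MulAut V) (s : MulAut V)
    (hsf : ∀ x, s * f x = f (φ x) * s) (hsn : s ^ 2 ^ n = 1) (hsV : ∀ v, s v = v → v = 1)
    (hfπ : ∀ y x, f x = 1 → f (π y x) = 1) (hf : ∃ x, f x ≠ 1) : False := by
  classical
  set N := f.ker with hN
  have hNφ : ∀ x, x ∈ N ↔ φ x ∈ N := fun x => by
    rw [hN, MonoidHom.mem_ker, MonoidHom.mem_ker]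
    constructor
    · intro h1
      have h2 := hsf x
      rw [h1, mul_one] at h2
      exact (mul_eq_right.mp h2.symm)
    · intro h1
      have h2 := hsf x
      rw [h1, one_mul] at h2
      exact (mul_eq_left.mp h2)
  have hNπ : ∀ y, ∀ x ∈ N, π y x ∈ N := fun y x hx => hfπ y x hx
  have hNiff : ∀ y x, x ∈ N ↔ π y x ∈ N := fun y x => ⟨hNπ y x, fun hx => by
    have h1 := hNπ y⁻¹ _ hx
    rwa [← MulAut.mul_apply, ← map_mul, inv_mul_cancel, map_one, MulAut.one_apply] at h1⟩
  have hNne : N ≠ ⊤ := fun htop => by
    obtain ⟨x, hx⟩ := hf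
    exact hx (htop ▸ Subgroup.mem_top x : x ∈ N)
  have hNfix := hmin N hNφ hNπ hNne
  let act : P →* MulAut (T ⧸ N) := MonoidHom.mk'
    (fun y => onQuot (π y) N (hNiff y)) fun y z => by
      refine MulEquiv.ext fun a => ?_
      induction a using QuotientGroup.induction_on with
      | H x =>
        show ((π (y * z) x : T) : T ⧸ N) = ((π y (π z x) : T) : T ⧸ N)
        rw [map_mul, MulAut.mul_apply]
  set φ' := onQuot φ N hNφ with hφ'
  have hcompat : ∀ y (a : T ⧸ N), φ' (act y a) = act (ψ y) (φ' a) := fun y a => by
    induction a using QuotientGroup.induction_on with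
    | H x =>
      show ((φ (π y x) : T) : T ⧸ N) = ((π (ψ y) (φ x) : T) : T ⧸ N)
      rw [hψ]
  set M := act.ker with hM
  have hMψ : ∀ y, y ∈ M ↔ ψ y ∈ M := fun y => by
    rw [hM, MonoidHom.mem_ker, MonoidHom.mem_ker]
    constructor
    · intro h1
      refine MulEquiv.ext fun a => ?_
      obtain ⟨b, rfl⟩ := φ'.surjective a
      rw [← hcompat, h1, MulAut.one_apply, MulAut.one_apply]
    · intro h1
      refine MulEquiv.ext fun a => φ'.injective ?_
      rw [hcompat, h1, MulAut.one_apply, MulAut.one_apply]
  have hcards : (Nat.card T).Coprime (Nat.card P) := by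
    obtain ⟨a, ha⟩ := IsPGroup.iff_card.mp hT
    obtain ⟨b, hb⟩ := IsPGroup.iff_card.mp hP.isPGroup
    rw [ha, hb]
    exact Nat.Coprime.pow a b ((Nat.coprime_primes hq.out hl.out).mpr (Ne.symm hlq))
  have hMne : M ≠ ⊤ := fun htop => by
    obtain ⟨y, x, hyx⟩ := hmoved
    refine hyx ?_
    set k := x⁻¹ * π y x with hk
    have hkN : k ∈ N := QuotientGroup.eq.mp
      (MulEquiv.congr_fun (htop ▸ Subgroup.mem_top y : y ∈ M) (x : T ⧸ N)).symm
    have hkfix := hNfix y k hkN
    have hrep : ∀ i : ℕ, (π (y ^ i)) x = x * k ^ i := by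
      intro i
      induction i with
      | zero => simp
      | succ i ih =>
        rw [pow_succ', map_mul, MulAut.mul_apply, ih, map_mul (π y), map_pow, hkfix,
          show π y x = x * k from (mul_inv_cancel_left x _).symm, mul_assoc, ← pow_succ']
    have h1 := hrep (Nat.card P)
    rw [pow_card_eq_one', map_one, MulAut.one_apply] at h1
    have hk1 : k = 1 := orderOf_eq_one_iff.mp (Nat.eq_one_of_dvd_coprimes hcards
      (orderOf_dvd_natCard k) (orderOf_dvd_of_pow_eq_one (mul_left_cancel (h1.symm.trans (mul_one x).symm))))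
    exact (inv_mul_eq_one.mp hk1).symm
  have hP' := minimal_quotient hP (Ne.symm hl2) M hMψ hMne
  -- the module over an algebraically closed field
  have instV : Module (ZMod r) (Additive V) :=
    AddCommGroup.zmodModule fun v => congrArg Additive.ofMul (hV (Additive.toMul v))
  let L : MulAut V →* Module.End (ZMod r) (Additive V) :=
    { toFun := fun a => ((MonoidHom.toAdditive a.toMonoidHom).toZModLinearMap r :
        Additive V →ₗ[ZMod r] Additive V)
      map_one' := by
        refine LinearMap.ext fun v => ?_
        rw [AddMonoidHom.coe_toZModLinearMap]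
        rfl
      map_mul' := fun a b => by
        refine LinearMap.ext fun v => ?_
        rw [Module.End.mul_apply, AddMonoidHom.coe_toZModLinearMap, AddMonoidHom.coe_toZModLinearMap,
          AddMonoidHom.coe_toZModLinearMap]
        rfl }
  have hLap : ∀ (a : MulAut V) (m : V), L a (Additive.ofMul m) = Additive.ofMul (a m) := fun a m => by
    simp only [L, MonoidHom.coe_mk, OneHom.coe_mk, AddMonoidHom.coe_toZModLinearMap]
    rfl
  have hLinj : Function.Injective L := fun a b hab => MulEquiv.ext fun v => by
    have h1 := LinearMap.congr_fun hab (Additive.ofMul v)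
    rw [hLap, hLap] at h1
    exact congrArg Additive.toMul h1
  haveI : Module.Finite (ZMod r) (Additive V) := Module.Finite.of_finite
  let F := ZMod r
  let K := AlgebraicClosure F
  let B : Module.End F (Additive V) →* Module.End K (K ⊗[F] Additive V) :=
    { toFun := fun a => a.baseChange K
      map_one' := LinearMap.baseChange_id
      map_mul' := fun a b => LinearMap.baseChange_comp _ _ }
  have hinj : Function.Injective fun v : Additive V => (1 : K) ⊗ₜ[F] v := by
    have h1 := Module.Flat.rTensor_preserves_injective_linearMap (M := Additive V)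
      (Algebra.linearMap F K) (algebraMap F K).injective
    intro v w hvw
    have h2 : ((Algebra.linearMap F K).rTensor (Additive V)) ((1 : F) ⊗ₜ v) =
        ((Algebra.linearMap F K).rTensor (Additive V)) ((1 : F) ⊗ₜ w) := by
      simpa using hvw
    simpa using congrArg (fun z => TensorProduct.lid F (Additive V) z) (h1 h2)
  have hBinj : Function.Injective B := fun a b hab =>
    LinearMap.ext fun v => hinj (LinearMap.congr_fun hab ((1 : K) ⊗ₜ[F] v))
  let ρ : T ⧸ N →* Module.End K (K ⊗[F] Additive V) :=
    B.comp (L.comp (QuotientGroup.kerLift f))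
  have hop : Op n φ' ρ (B (L s)) :=
    { pow := MulEquiv.ext fun a => by
        induction a using QuotientGroup.induction_on with
        | H x => rw [onQuot_pow, hφn]; rfl
      spow := by rw [← map_pow, ← map_pow, hsn, map_one, map_one]
      compat := fun a => by
        induction a using QuotientGroup.induction_on with
        | H x =>
          show B (L s) * B (L (f x)) = B (L (f (φ x))) * B (L s)
          rw [← map_mul, ← map_mul, ← map_mul, ← map_mul, hsf]
      fix := by
        have h1 : Function.Injective (L s - 1 : Module.End F (Additive V)) := by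
          intro a b hab
          have h2 : L s (a - b) = a - b := by
            rw [map_sub]
            have h3 : L s a - a = L s b - b := hab
            rw [sub_eq_sub_iff_sub_eq_sub] at h3
            exact h3
          obtain ⟨m, hm⟩ : ∃ m, a - b = Additive.ofMul m := ⟨_, rfl⟩
          rw [hm, hLap] at h2
          rw [hsV m (congrArg Additive.toMul h2)] at hm
          exact sub_eq_zero.mp hm
        have h2 : Function.Injective ((L s - 1 : Module.End F (Additive V)).baseChange K) :=
          Module.Flat.lTensor_preserves_injective_linearMap _ h1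
        intro v hv
        refine h2 ?_
        rw [LinearMap.baseChange_sub, LinearMap.sub_apply, map_zero, Module.End.one_eq_id,
          LinearMap.baseChange_id, LinearMap.id_apply, sub_eq_zero]
        exact hv }
  have hcast : ∀ l : ℕ, l.Prime → l ≠ r → (l : K) ≠ 0 := fun l hl' hlr h0 => by
    rw [← map_natCast (algebraMap F K), map_eq_zero] at h0
    exact hlr ((Nat.prime_dvd_prime_iff_eq hr.out hl').mp
      ((ZMod.natCast_eq_zero_iff _ _).mp h0)).symm
  refine no_configuration (q := q) (ℓ := ℓ) hq2 hl2 hlq (hcast q hq.out (Ne.symm hrq))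
    (by exact_mod_cast hcast 2 Nat.prime_two (Ne.symm hr2)) (hT.to_quotient N) hop
    (hBinj.comp (hLinj.comp (QuotientGroup.kerLift_injective f))) ?_ hP'
    (QuotientGroup.kerLift act) (QuotientGroup.kerLift_injective act) ?_ ?_
  · exact fun a ha => CfsgLib.Core.FPFFour.quotient_eq_one_of_fixed hfpf N (map_of_iff φ N hNφ) a ha
  · intro y a
    induction y using QuotientGroup.induction_on with
    | H y => exact hcompat y a
  · intro R hRφ hRπ hRne y a ha
    induction y using QuotientGroup.induction_on with
    | H y =>
    induction a using QuotientGroup.induction_on with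
    | H x =>
    show ((π y x : T) : T ⧸ N) = (x : T ⧸ N)
    rw [hmin (R.comap (QuotientGroup.mk' N)) (fun z => hRφ (z : T ⧸ N))
      (fun w z hz => hRπ (w : P ⧸ M) (z : T ⧸ N) hz) (fun htop => hRne (by
        rw [← Subgroup.map_comap_eq_self_of_surjective (QuotientGroup.mk'_surjective N) R, htop,
          Subgroup.map_top_of_surjective _ (QuotientGroup.mk'_surjective N)])) y x ha]

end CfsgLib.PGroups.Gross
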