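import Mathlib
import Cfsg.Agent.Lib.PGroups.Gross.Module
import Cfsg.Agent.Lib.PGroups.Gross.Fitting

/-!
# The theorem of Gross

* `top_mem_fitting_quotient`: for a fixed point free operator of order dividing `2 ^ n`, the top
  power centralises `G / F₂(G)`
* `chain`: the Fitting height is at most `2 n - 2` for `n ≥ 2`
-/

set_option autoImplicit false
set_option linter.all false
set_option maxHeartbeats 1000000

namespace CfsgLib.PGroups.Gross

open CfsgLib.PGroups.ShultGross CfsgLib.PGroups.Alperin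

universe u

/-- A minimal invariant subgroup that is moved. -/
theorem exists_minimal_moved {A : Type*} [Group A] [Finite A] {ℓ n : ℕ} (hn : 1 ≤ n) {χ : MulAut A}
    (hχ : χ ^ 2 ^ n = 1) {Y : Subgroup A} (hY : IsPGroup ℓ Y) (hYχ : ∀ a, a ∈ Y ↔ χ a ∈ Y)
    {y : A} (hy : y ∈ Y) (hmove : (χ ^ 2 ^ (n - 1)) y ≠ y) :
    ∃ (P : Subgroup A) (hP : ∀ a, a ∈ P ↔ χ a ∈ P), P ≤ Y ∧
      Minimal' 2 ℓ n (Alperin.restrict χ P hP) ∧ ∃ z ∈ P, (χ ^ 2 ^ (n - 1)) z ≠ z := by
  obtain ⟨P, hP⟩ := exists_minimal_of_wellFoundedLT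
    (fun P : Subgroup A => P ≤ Y ∧ (∀ a, a ∈ P ↔ χ a ∈ P) ∧ ∃ z ∈ P, (χ ^ 2 ^ (n - 1)) z ≠ z)
    ⟨Y, le_rfl, hYχ, y, hy, hmove⟩
  obtain ⟨hPY, hPχ, z, hz, hzne⟩ := hP.prop
  refine ⟨P, hPχ, hPY, ?_, z, hz, hzne⟩
  exact
    { isPGroup := hY.to_le hPY
      pow := MulEquiv.ext fun a => Subtype.ext (by rw [restrict_pow, hχ]; rfl)
      one_le := hn
      ne := fun h1 => hzne (by
        have := congrArg Subtype.val (MulEquiv.congr_fun h1 ⟨z, hz⟩)
        rwa [restrict_pow] at this)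
      min := fun R hR hRne a ha => by
        by_contra hane
        have hle : R.map P.subtype ≤ P := Subgroup.map_subtype_le R
        have hRP : R.map P.subtype ≤ Y ∧ (∀ b, b ∈ R.map P.subtype ↔ χ b ∈ R.map P.subtype) ∧
            ∃ b ∈ R.map P.subtype, (χ ^ 2 ^ (n - 1)) b ≠ b := by
          refine ⟨hle.trans hPY, fun b => ?_, a, Subgroup.mem_map_of_mem _ ha, fun hh => hane
            (Subtype.ext (by rw [restrict_pow]; exact hh))⟩
          constructor
          · rintro ⟨c, hc, rfl⟩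
            exact ⟨Alperin.restrict χ P hPχ c, (hR c).mp hc, rfl⟩
          · rintro ⟨c, hc, hcb⟩
            refine ⟨(Alperin.restrict χ P hPχ).symm c, (hR _).mpr (by rwa [MulEquiv.apply_symm_apply]),
              χ.injective ?_⟩
            rw [← hcb]
            exact congrArg Subtype.val ((Alperin.restrict χ P hPχ).apply_symm_apply c)
        have := hP.eq_of_le hRP hle
        refine hRne (Subgroup.map_injective P.subtype_injective ?_)
        rw [← MonoidHom.range_eq_map, Subgroup.range_subtype]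
        first | exact this | exact this.symm }

variable {G : Type u} [Group G] [Finite G]

/-- The top power centralises `G / F₂(G)`. -/
theorem top_mem_fitting_quotient (hG : Group.IsSolvable G) {n : ℕ} (hn : 1 ≤ n) {σ : MulAut G}
    (hσ : σ ^ 2 ^ n = 1) (hfpf : ∀ g : G, σ g = g → g = 1) :
    ∀ x : G ⧸ Cfsg.fittingSubgroup G, x⁻¹ * ((onQuot σ (Cfsg.fittingSubgroup G) (mem_iff_of_char σ _)) ^ 2 ^ (n - 1)) x ∈
      Cfsg.fittingSubgroup (G ⧸ Cfsg.fittingSubgroup G) := by
  classical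
  haveI := hG
  set F := Cfsg.fittingSubgroup G with hF
  set σ1 := onQuot σ F (mem_iff_of_char σ F) with hσ1def
  set F1 := Cfsg.fittingSubgroup (G ⧸ F) with hF1
  have hFσ : F.map σ.toMonoidHom = F := map_of_iff σ F (mem_iff_of_char σ F)
  have hσ1 : σ1 ^ 2 ^ n = 1 := MulEquiv.ext fun a => by
    induction a using QuotientGroup.induction_on with
    | H y => rw [onQuot_pow, hσ]; rfl
  have hfpf1 : ∀ a, σ1 a = a → a = 1 := fun a ha =>
    CfsgLib.Core.FPFFour.quotient_eq_one_of_fixed hfpf F hFσ a ha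
  let σ2 := onQuot σ1 F1 (mem_iff_of_char σ1 F1)
  have hσ2 : σ2 ^ 2 ^ n = 1 := MulEquiv.ext fun a => by
    induction a using QuotientGroup.induction_on with
    | H y => rw [onQuot_pow, hσ1]; rfl
  have hfpf2 : ∀ a, σ2 a = a → a = 1 := fun a ha =>
    CfsgLib.Core.FPFFour.quotient_eq_one_of_fixed hfpf1 F1
      (map_of_iff σ1 F1 (mem_iff_of_char σ1 F1)) a ha
  haveI : Fact (Nat.Prime 2) := ⟨Nat.prime_two⟩
  have hodd : (Nat.card G).Coprime 2 := coprime_card_of_fpf hσ hfpf
  have hodd1 : (Nat.card (G ⧸ F)).Coprime 2 := coprime_card_of_fpf hσ1 hfpf1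
  have hne2 : ∀ {r : ℕ}, r.Prime → r ∣ Nat.card G → r ≠ 2 := fun hr hd h2 => by
    subst h2
    exact hr.ne_one (Nat.eq_one_of_dvd_coprimes hodd hd dvd_rfl)
  intro x
  by_contra hx
  -- a moved element of some core of the top quotient
  obtain ⟨l, w, hw, hwne⟩ := exists_moved_core (G := (G ⧸ F) ⧸ F1) inferInstance
    (coprime_card_of_fpf hσ2 hfpf2) (τ := σ2 ^ 2 ^ (n - 1))
    (by rw [← pow_mul, ← pow_succ, Nat.sub_add_cancel hn, hσ2]) (x := (x : (G ⧸ F) ⧸ F1))
    (fun h1 => hx (by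
      rw [onQuot_pow] at h1
      exact QuotientGroup.eq.mp h1.symm))
  set ℓ := (l : ℕ) with hℓ
  haveI : Fact ℓ.Prime := ⟨l.2⟩
  have hℓd : ℓ ∣ Nat.card G := by
    have h1 : ℓ ∣ Nat.card ((G ⧸ F) ⧸ F1) := by
      by_contra hnd
      rw [CfsgLib.Core.pCore_eq_bot_of_not_dvd l.2 hnd, Subgroup.mem_bot] at hw
      exact hwne (by rw [hw, map_one])
    exact h1.trans (F1.card_quotient_dvd_card.trans F.card_quotient_dvd_card)
  -- an invariant Sylow subgroup over that core
  set C := Cfsg.pCore ℓ ((G ⧸ F) ⧸ F1) with hC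
  haveI : C.Characteristic := by rw [hC]; infer_instance
  set Pre := C.comap (QuotientGroup.mk' F1) with hPre
  haveI : Pre.Normal := Subgroup.Normal.comap inferInstance _
  have hPreσ : ∀ a, a ∈ Pre ↔ σ1 a ∈ Pre := fun a => by
    rw [hPre, Subgroup.mem_comap, Subgroup.mem_comap]
    exact mem_iff_of_char σ2 C (a : (G ⧸ F) ⧸ F1)
  let σP := Alperin.restrict σ1 Pre hPreσ
  obtain ⟨S₀⟩ : Nonempty (Sylow ℓ Pre) := inferInstance
  obtain ⟨d, hd⟩ : ∃ d : Pre, (S₀ : Subgroup Pre).map (MulAut.conj d).toMonoidHom =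
      ((S₀ : Subgroup Pre).map (MulAut.conj d).toMonoidHom).map σP.toMonoidHom := by
    have hsyl : ∃ c : Pre, ((S₀ : Subgroup Pre).map σP.toMonoidHom) =
        (S₀ : Subgroup Pre).map (MulAut.conj c).toMonoidHom := by
      obtain ⟨c, hc⟩ := MulAction.exists_smul_eq Pre S₀ (S₀.mapSurjective (f := σP.toMonoidHom) σP.surjective)
      exact ⟨c, (congrArg (fun S : Sylow ℓ Pre => (S : Subgroup Pre)) hc).symm⟩
    obtain ⟨c, hc⟩ := hsyl
    obtain ⟨d, hd⟩ : ∃ d : Pre, d⁻¹ * σP d = c⁻¹ := by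
      refine Finite.surjective_of_injective (f := fun d : Pre => d⁻¹ * σP d) ?_ c⁻¹
      intro a b hab
      have h1 : σP (a * b⁻¹) = a * b⁻¹ := by
        have h2 : a⁻¹ * σP a = b⁻¹ * σP b := hab
        have h3 : σP a = a * b⁻¹ * σP b := by rw [mul_assoc, ← h2, mul_inv_cancel_left]
        rw [map_mul, map_inv, h3, mul_inv_cancel_right]
      exact mul_inv_eq_one.mp (Subtype.ext
        (hfpf1 _ (congrArg Subtype.val h1)) : a * b⁻¹ = 1)
    refine ⟨d, ?_⟩
    have hcomp : σP.toMonoidHom.comp (MulAut.conj d).toMonoidHom =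
        (MulAut.conj (σP d)).toMonoidHom.comp σP.toMonoidHom := by
      refine MonoidHom.ext fun a => ?_
      simp
    rw [Subgroup.map_map, hcomp, ← Subgroup.map_map, hc, Subgroup.map_map]
    congr 1
    refine MonoidHom.ext fun a => ?_
    have h4 : σP d = d * c⁻¹ := by rw [← hd, mul_inv_cancel_left]
    simp [h4, mul_assoc]
  set Y := ((S₀ : Subgroup Pre).map (MulAut.conj d).toMonoidHom).map Pre.subtype with hY
  have hYl : IsPGroup ℓ Y := (S₀.isPGroup'.map _).map _
  have hYle : Y ≤ Pre := Subgroup.map_subtype_le _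
  have hYσ : ∀ a, a ∈ Y ↔ σ1 a ∈ Y := by
    intro a
    constructor
    · rintro ⟨b, hb, rfl⟩
      refine ⟨σP b, ?_, rfl⟩
      rw [hd]
      exact Subgroup.mem_map_of_mem _ hb
    · intro ha
      obtain ⟨b, hb, hba⟩ := ha
      have hb' : b ∈ ((S₀ : Subgroup Pre).map (MulAut.conj d).toMonoidHom).map σP.toMonoidHom := hd ▸ hb
      obtain ⟨c, hc, rfl⟩ := hb'
      exact ⟨c, hc, σ1.injective hba⟩
  have hYmap : Y.map (QuotientGroup.mk' F1) = C := by
    refine le_antisymm ((Subgroup.map_mono hYle).trans (Subgroup.map_comap_le _ _)) fun c hc => ?_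
    let g : Pre →* C := ((QuotientGroup.mk' F1).comp Pre.subtype).codRestrict C fun a => a.2
    have hg : Function.Surjective g := fun c => by
      obtain ⟨a, ha⟩ := QuotientGroup.mk'_surjective F1 (c : (G ⧸ F) ⧸ F1)
      exact ⟨⟨a, show QuotientGroup.mk' F1 a ∈ C by rw [ha]; exact c.2⟩, Subtype.ext ha⟩
    have h1 : ((d • S₀ : Sylow ℓ Pre) : Subgroup Pre).map g = ⊤ :=
      (((d • S₀ : Sylow ℓ Pre).mapSurjective hg).is_maximal'
        ((CfsgLib.Core.isPGroup_pCore ℓ _).to_subgroup (⊤ : Subgroup C)) le_top).symm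
    obtain ⟨a, ha, hac⟩ := (h1 ▸ Subgroup.mem_top (⟨c, hc⟩ : C) :
      (⟨c, hc⟩ : C) ∈ ((d • S₀ : Sylow ℓ Pre) : Subgroup Pre).map g)
    exact ⟨(a : G ⧸ F), Subgroup.mem_map_of_mem _ ha, congrArg Subtype.val hac⟩
  obtain ⟨y, hy, rfl⟩ : ∃ y ∈ Y, (y : (G ⧸ F) ⧸ F1) = w := by
    obtain ⟨y, hy, hyw⟩ := (hYmap ▸ hw : w ∈ Y.map (QuotientGroup.mk' F1))
    exact ⟨y, hy, hyw⟩
  set k := y⁻¹ * (σ1 ^ 2 ^ (n - 1)) y with hk
  have hkF1 : k ∉ F1 := fun hmem => hwne (by
    rw [onQuot_pow]; exact (QuotientGroup.eq.mpr hmem).symm)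
  have hkY : k ∈ Y := mul_mem (inv_mem hy) ((pow_mem_iff σ1 Y hYσ _ y).mp hy)
  -- the core that is moved
  have hkC : k ∉ Subgroup.centralizer (otherCores ℓ (G ⧸ F) : Set (G ⧸ F)) := fun hc => hkF1
    (le_fitting_of_centralizes (q := ℓ) Pre (fun a ha => by
      obtain ⟨j, hj⟩ := CfsgLib.Core.isPGroup_pCore ℓ _ ⟨(a : (G ⧸ F) ⧸ F1), ha⟩
      refine ⟨j, (QuotientGroup.eq_one_iff _).mp ?_⟩
      rw [QuotientGroup.mk_pow]
      exact congrArg Subtype.val hj) (Subgroup.mem_inf.mpr ⟨hYle hkY, hc⟩))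
  obtain ⟨q, hq⟩ : ∃ q : {r : Nat.Primes // (r : ℕ) ≠ ℓ},
      ¬ Cfsg.pCore ((q : Nat.Primes) : ℕ) (G ⧸ F) ≤ Subgroup.centralizer ({k} : Set (G ⧸ F)) := by
    by_contra hall
    push Not at hall
    refine hkC (Subgroup.mem_centralizer_iff.mpr fun a ha => ?_)
    exact Subgroup.mem_centralizer_singleton_iff.mp ((iSup_le hall :
      otherCores ℓ (G ⧸ F) ≤ Subgroup.centralizer ({k} : Set (G ⧸ F))) ha)
  obtain ⟨⟨q, hqp⟩, hqℓ⟩ := q
  haveI : Fact q.Prime := ⟨hqp⟩
  set Tq := Cfsg.pCore q (G ⧸ F) with hTq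
  haveI : Tq.Characteristic := by rw [hTq]; infer_instance
  haveI : Tq.Normal := by rw [hTq]; infer_instance
  have hqd : q ∣ Nat.card G := by
    have h1 : q ∣ Nat.card (G ⧸ F) := by
      by_contra hnd
      refine hq ?_
      rw [hTq, CfsgLib.Core.pCore_eq_bot_of_not_dvd hqp hnd]
      exact bot_le
    exact h1.trans F.card_quotient_dvd_card
  let φq := Alperin.restrict σ1 Tq (mem_iff_of_char σ1 Tq)
  let cq : G ⧸ F →* MulAut Tq := MulAut.conjNormal
  let χ : MulAut (MulAut Tq) := MulAut.conj φq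
  have hχcq : ∀ a, χ (cq a) = cq (σ1 a) := fun a => by
    show φq * cq a * φq⁻¹ = cq (σ1 a)
    rw [mul_inv_eq_iff_eq_mul]
    refine MulEquiv.ext fun t => Subtype.ext ?_
    simp [φq, cq, restrict_apply]
  have hχpow : ∀ (i : ℕ) a, (χ ^ i) (cq a) = cq ((σ1 ^ i) a) := by
    intro i
    induction i with
    | zero => intro a; simp
    | succ i ih => intro a; rw [pow_succ', MulAut.mul_apply, ih, hχcq, pow_succ' σ1, MulAut.mul_apply]
  have hχn : χ ^ 2 ^ n = 1 := by
    rw [← map_pow, show φq ^ 2 ^ n = 1 from MulEquiv.ext fun t => Subtype.ext (by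
      rw [restrict_pow, hσ1]; rfl), map_one]
  have hYχ : ∀ a, a ∈ Y.map cq ↔ χ a ∈ Y.map cq := by
    intro a
    constructor
    · rintro ⟨b, hb, rfl⟩
      exact ⟨σ1 b, (hYσ b).mp hb, (hχcq b).symm⟩
    · rintro ⟨b, hb, hba⟩
      refine ⟨σ1.symm b, (hYσ _).mpr (by rw [MulEquiv.apply_symm_apply]; exact hb), χ.injective ?_⟩
      rw [hχcq, MulEquiv.apply_symm_apply, hba]
  obtain ⟨P, hPχ, hPY, hPmin, z, hz, hzne⟩ := exists_minimal_moved hn hχn (hYl.map cq) hYχ
    (Subgroup.mem_map_of_mem cq hy) (fun h1 => hq (fun t ht => by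
      rw [hχpow] at h1
      have h2 : cq k = 1 := by rw [hk, map_mul, map_inv, h1, inv_mul_cancel]
      rw [Subgroup.mem_centralizer_singleton_iff]
      have h3 := congrArg Subtype.val (MulEquiv.congr_fun h2 ⟨t, ht⟩)
      rw [MulAut.conjNormal_apply, MulAut.one_apply, mul_inv_eq_iff_eq_mul] at h3
      exact h3.symm))
  -- a minimal moved `q`-group
  obtain ⟨T, hT⟩ := exists_minimal_of_wellFoundedLT
    (fun T : Subgroup Tq => (∀ t, t ∈ T ↔ φq t ∈ T) ∧ (∀ a ∈ P, ∀ t ∈ T, a t ∈ T) ∧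
      ∃ a ∈ P, ∃ t ∈ T, a t ≠ t)
    ⟨⊤, fun _ => by simp, fun _ _ _ _ => Subgroup.mem_top _, by
      by_contra hall
      push Not at hall
      exact hzne (by
        have h1 : ∀ a ∈ P, a = 1 := fun a ha => MulEquiv.ext fun t => hall a ha t (Subgroup.mem_top t)
        rw [h1 z hz, map_one])⟩
  obtain ⟨hTφ, hTP, a₀, ha₀, t₀, ht₀, hat⟩ := hT.prop
  have hTiff : ∀ a : P, ∀ t, t ∈ T ↔ (a : MulAut Tq) t ∈ T := fun a t => ⟨hTP a a.2 t, fun ht => by
    have h1 := hTP _ (inv_mem a.2) _ ht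
    rwa [← MulAut.mul_apply, inv_mul_cancel, MulAut.one_apply] at h1⟩
  let π : P →* MulAut T := MonoidHom.mk' (fun a => Alperin.restrict (a : MulAut Tq) T (hTiff a))
    fun a b => MulEquiv.ext fun t => Subtype.ext rfl
  let φT := Alperin.restrict φq T hTφ
  obtain ⟨r, hrp, hrq, hrd, g₀, hg₀, hg₀1⟩ :=
    exists_nontrivial_module (q := q) (t := ((t₀ : Tq) : G ⧸ F)) t₀.2 (fun h1 => hat (by
      rw [show t₀ = 1 from Subtype.ext h1, map_one]))
  haveI : Fact r.Prime := ⟨hrp⟩
  set R := Cfsg.pCore r G with hR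
  haveI : R.Characteristic := by rw [hR]; infer_instance
  letI : CommGroup (R ⧸ frattini R) :=
    { (inferInstance : Group (R ⧸ frattini R)) with
      mul_comm := fun a b => by
        induction a using QuotientGroup.induction_on with
        | H a =>
        induction b using QuotientGroup.induction_on with
        | H b =>
        show ((a * b : R) : R ⧸ frattini R) = ((b * a : R) : R ⧸ frattini R)
        rw [QuotientGroup.eq]
        have := commutator_le_frattini' (CfsgLib.Core.isPGroup_pCore r G)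
          (Subgroup.commutator_mem_commutator (Subgroup.mem_top b⁻¹) (Subgroup.mem_top a⁻¹))
        simpa [commutatorElement_def, mul_assoc] using this }
  let σR := Alperin.restrict σ R (mem_iff_of_char σ R)
  let s : MulAut (R ⧸ frattini R) := onQuot σR _ (mem_iff_of_char σR _)
  have hsact : ∀ g, s * modAct G r g = modAct G r (σ g) * s := fun g => by
    refine MulEquiv.ext fun v => ?_
    induction v using QuotientGroup.induction_on with
    | H a =>
      show ((σR (MulAut.conjNormal g a : R) : R) : R ⧸ frattini R) =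
        ((MulAut.conjNormal (σ g) (σR a) : R) : R ⧸ frattini R)
      congr 1
      refine Subtype.ext ?_
      simp [σR, restrict_apply]
  let act : G ⧸ F →* MulAut (R ⧸ frattini R) := QuotientGroup.lift F (modAct G r) fitting_le_ker
  have hsact1 : ∀ a, s * act a = act (σ1 a) * s := fun a => by
    induction a using QuotientGroup.induction_on with
    | H g => exact hsact g
  let f : T →* MulAut (R ⧸ frattini R) := act.comp (Tq.subtype.comp T.subtype)
  refine not_moved (q := q) (r := r) (ℓ := ℓ) (n := n) (hne2 hqp hqd) (hne2 l.2 hℓd) (Ne.symm hqℓ) hrq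
    (hne2 hrp hrd) ((CfsgLib.Core.isPGroup_pCore q _).to_subgroup T) (φ := φT)
    (MulEquiv.ext fun t => Subtype.ext (by
      rw [restrict_pow]
      exact Subtype.ext (by rw [restrict_pow, hσ1]; rfl)))
    (fun t ht => Subtype.ext (Subtype.ext
      (hfpf1 _ (congrArg (fun u : T => ((u : Tq) : G ⧸ F)) ht))))
    hPmin π (fun a t => ?_) ?_ ?_ (fun v => ?_) f s (fun t => hsact1 _) ?_ ?_ ?_ ?_
  · refine Subtype.ext ?_
    show φq ((a : MulAut Tq) (t : Tq)) = (χ (a : MulAut Tq)) (φq (t : Tq))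
    simp [χ]
  · intro W hWφ hWπ hWne a x hx
    by_contra hne
    have hle : W.map T.subtype ≤ T := Subgroup.map_subtype_le W
    have hW : (∀ t, t ∈ W.map T.subtype ↔ φq t ∈ W.map T.subtype) ∧
        (∀ a ∈ P, ∀ t ∈ W.map T.subtype, a t ∈ W.map T.subtype) ∧
        ∃ a ∈ P, ∃ t ∈ W.map T.subtype, a t ≠ t := by
      refine ⟨fun t => ?_, ?_, (a : MulAut Tq), a.2, (x : Tq), Subgroup.mem_map_of_mem _ hx,
        fun hh => hne (Subtype.ext hh)⟩
      · constructor
        · rintro ⟨u, hu, rfl⟩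
          exact ⟨φT u, (hWφ u).mp hu, rfl⟩
        · rintro ⟨u, hu, hut⟩
          refine ⟨φT.symm u, (hWφ _).mpr (by rwa [MulEquiv.apply_symm_apply]), φq.injective ?_⟩
          rw [← hut]
          exact congrArg Subtype.val (φT.apply_symm_apply u)
      · rintro b hb _ ⟨u, hu, rfl⟩
        exact ⟨π ⟨b, hb⟩ u, hWπ ⟨b, hb⟩ u hu, rfl⟩
    have := hT.eq_of_le hW hle
    refine hWne (Subgroup.map_injective T.subtype_injective ?_)
    rw [← MonoidHom.range_eq_map, Subgroup.range_subtype]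
    first | exact this | exact this.symm
  · exact ⟨⟨a₀, ha₀⟩, ⟨t₀, ht₀⟩, fun h1 => hat (congrArg Subtype.val h1)⟩
  · induction v using QuotientGroup.induction_on with
    | H a =>
      rw [← QuotientGroup.mk_pow]
      exact (QuotientGroup.eq_one_iff _).mpr (pow_mem_frattini (CfsgLib.Core.isPGroup_pCore r G) a)
  · refine MulEquiv.ext fun v => ?_
    induction v using QuotientGroup.induction_on with
    | H a =>
      rw [onQuot_pow, show (σR ^ 2 ^ n) a = a from Subtype.ext (by rw [restrict_pow, hσ]; rfl)]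
      rfl
  · exact fun v hv => CfsgLib.Core.FPFFour.quotient_eq_one_of_fixed
      (fun a ha => Subtype.ext (hfpf _ (congrArg Subtype.val ha))) _
      (map_of_iff σR _ (mem_iff_of_char σR _)) v hv
  · intro a t ht
    obtain ⟨b, hb, hba⟩ := hPY a.2
    show act ((((a : MulAut Tq) (t : Tq)) : Tq) : G ⧸ F) = 1
    rw [← hba, MulAut.conjNormal_apply, map_mul, map_mul, map_inv,
      show act ((t : Tq) : G ⧸ F) = 1 from ht, mul_one, mul_inv_cancel]
  · exact ⟨⟨t₀, ht₀⟩, fun h1 => hg₀1 (by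
      have h2 : act ((t₀ : Tq) : G ⧸ F) = 1 := h1
      rw [← hg₀] at h2
      exact h2)⟩

/-- A chain of length `k` with nilpotent factors. -/
def Chain (G : Type*) [Group G] (k : ℕ) : Prop :=
  ∃ F : Fin (k + 1) → Subgroup G, F 0 = ⊥ ∧ F (Fin.last k) = ⊤ ∧ Monotone F ∧
    (∀ i, (F i).Normal) ∧ ∀ i : Fin k, ∃ c : ℕ, (F i.succ).lowerCentralSeries c ≤ F i.castSucc

/-- A nilpotent normal subgroup prolongs a chain of the quotient. -/
theorem Chain.extend {G : Type*} [Group G] (N : Subgroup G) [N.Normal] (hNn : Group.IsNilpotent N)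
    {k : ℕ} (h : Chain (G ⧸ N) k) : Chain G (k + 1) := by
  obtain ⟨F, hF0, hFlast, hFmono, hFn, hFnil⟩ := h
  refine ⟨Fin.cons ⊥ fun i => (F i).comap (QuotientGroup.mk' N), Fin.cons_zero _ _, ?_, ?_, ?_, ?_⟩
  · rw [← Fin.succ_last, Fin.cons_succ, hFlast, Subgroup.comap_top]
  · refine Fin.monotone_iff_le_succ.mpr fun i => ?_
    refine Fin.cases ?_ (fun i => ?_) i
    · exact bot_le
    · rw [← Fin.succ_castSucc, Fin.cons_succ, Fin.cons_succ]
      exact Subgroup.comap_mono (Fin.monotone_iff_le_succ.mp hFmono i)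
  · intro i
    refine Fin.cases ?_ (fun i => ?_) i
    · rw [Fin.cons_zero]; infer_instance
    · rw [Fin.cons_succ]; exact (hFn i).comap _
  · intro i
    refine Fin.cases ?_ (fun i => ?_) i
    · rw [Fin.castSucc_zero, Fin.cons_zero, Fin.cons_succ, hF0]
      have hk : (⊥ : Subgroup (G ⧸ N)).comap (QuotientGroup.mk' N) = N := by
        rw [MonoidHom.comap_bot, QuotientGroup.ker_mk']
      rw [hk]
      obtain ⟨c, hc⟩ := _root_.nilpotent_iff_lowerCentralSeries.mp hNn
      refine ⟨c, ?_⟩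
      have hmap : ∀ j, ((⊤ : Subgroup N).lowerCentralSeries j).map N.subtype = N.lowerCentralSeries j := by
        intro j
        induction j with
        | zero => rw [Subgroup.lowerCentralSeries_zero, Subgroup.lowerCentralSeries_zero,
            ← MonoidHom.range_eq_map, Subgroup.range_subtype]
        | succ j ihj => rw [Subgroup.lowerCentralSeries_succ, Subgroup.lowerCentralSeries_succ,
            Subgroup.map_commutator, ihj, ← MonoidHom.range_eq_map, Subgroup.range_subtype]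
      rw [← hmap, hc, Subgroup.map_bot]
    · obtain ⟨c, hc⟩ := hFnil i
      refine ⟨c, ?_⟩
      rw [← Fin.succ_castSucc, Fin.cons_succ, Fin.cons_succ]
      have hle : ∀ j, (((F i.succ).comap (QuotientGroup.mk' N)).lowerCentralSeries j).map
          (QuotientGroup.mk' N) ≤ (F i.succ).lowerCentralSeries j := by
        intro j
        induction j with
        | zero => exact Subgroup.map_comap_le _ _
        | succ j ihj =>
          rw [Subgroup.lowerCentralSeries_succ, Subgroup.lowerCentralSeries_succ, Subgroup.map_commutator]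
          exact Subgroup.commutator_mono ihj (Subgroup.map_comap_le _ _)
      exact Subgroup.map_le_iff_le_comap.mp ((hle c).trans hc)

/-- An abelian group has a chain of length one. -/
theorem chain_one {G : Type*} [Group G] (h : commutator G = ⊥) : Chain G 1 := by
  refine ⟨![⊥, ⊤], rfl, rfl, ?_, ?_, ?_⟩
  · refine Fin.monotone_iff_le_succ.mpr fun i => ?_
    fin_cases i
    exact bot_le
  · intro i
    fin_cases i
    · exact (inferInstance : (⊥ : Subgroup G).Normal)
    · exact (inferInstance : (⊤ : Subgroup G).Normal)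
  · intro i
    fin_cases i
    refine ⟨1, ?_⟩
    show (⊤ : Subgroup G).lowerCentralSeries 1 ≤ ⊥
    rw [Subgroup.lowerCentralSeries_succ, Subgroup.lowerCentralSeries_zero, ← commutator_def, h]

/-- The Fitting height for an operator of order dividing `2 ^ (m + 2)`. -/
theorem chain : ∀ (m : ℕ) (G : Type u) [Group G] [Finite G], Group.IsSolvable G → ∀ σ : MulAut G,
    σ ^ 2 ^ (m + 2) = 1 → (∀ g : G, σ g = g → g = 1) → Chain G (2 * m + 2) := by
  intro m
  induction m with
  | zero =>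
    intro G _ _ hG σ hσ hfpf
    have hnil := CfsgLib.Core.FPFFour.isNilpotent_commutator_of_four hG σ (by simpa using hσ) hfpf
    refine Chain.extend (commutator G) hnil (chain_one ?_)
    refine eq_bot_iff.mpr (Subgroup.commutator_le.mpr ?_)
    intro a _ b _
    induction a using QuotientGroup.induction_on with
    | H a =>
    induction b using QuotientGroup.induction_on with
    | H b =>
    rw [Subgroup.mem_bot]
    exact (QuotientGroup.eq_one_iff _).mpr
      (Subgroup.commutator_mem_commutator (Subgroup.mem_top a) (Subgroup.mem_top b))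
  | succ m ih =>
    intro G _ _ hG σ hσ hfpf
    haveI := hG
    set F := Cfsg.fittingSubgroup G with hF
    set σ1 := onQuot σ F (mem_iff_of_char σ F) with hσ1
    set F1 := Cfsg.fittingSubgroup (G ⧸ F) with hF1
    let σ2 := onQuot σ1 F1 (mem_iff_of_char σ1 F1)
    have hfpf1 : ∀ a, σ1 a = a → a = 1 := fun a ha =>
      CfsgLib.Core.FPFFour.quotient_eq_one_of_fixed hfpf F (map_of_iff σ F (mem_iff_of_char σ F)) a ha
    have h1 : σ2 ^ 2 ^ (m + 2) = 1 := MulEquiv.ext fun a => by
      induction a using QuotientGroup.induction_on with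
      | H x =>
        rw [onQuot_pow, MulAut.one_apply, eq_comm, QuotientGroup.eq]
        exact top_mem_fitting_quotient hG (Nat.le_add_left 1 (m + 2)) hσ hfpf x
    have h2 : ∀ a, σ2 a = a → a = 1 := fun a ha =>
      CfsgLib.Core.FPFFour.quotient_eq_one_of_fixed hfpf1 F1
        (map_of_iff σ1 F1 (mem_iff_of_char σ1 F1)) a ha
    have h3 := ih ((G ⧸ F) ⧸ F1) inferInstance σ2 h1 h2
    exact (h3.extend F1 (CfsgLib.Core.isNilpotent_fittingSubgroup _)).extend F
      (CfsgLib.Core.isNilpotent_fittingSubgroup G)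

end CfsgLib.PGroups.Gross
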